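import Mathlib

/-!
2-groups with an involutory automorphism whose fixed points form a line over a finite field, on
which a commuting automorphism induces multiplication by a generator.
-/

set_option autoImplicit false
set_option linter.unusedSectionVars false

namespace CfsgLib.InvFixedSinger

open scoped commutatorElement

universe u

section Field

variable {F : Type} [Field F] [CharP F 2] [Finite F]

theorem frobenius_surjective_two (x : F) : ∃ r : F, r ^ 2 = x := by
  have h : Function.Injective fun r : F => r ^ 2 := fun a b h => by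
    have h1 : (a + b) ^ 2 = 0 := by
      rw [CharTwo.add_sq]
      rw [show a ^ 2 = b ^ 2 from h, CharTwo.add_self_eq_zero]
    exact CharTwo.add_eq_zero.1 ((pow_eq_zero_iff two_ne_zero).1 h1)
  exact (Finite.injective_iff_surjective.1 h) x

theorem map_zero_of_add {A : Type*} [AddGroup A] (f : F → A) (h : ∀ x y, f (x + y) = f x + f y) :
    f 0 = 0 := by
  have := h 0 0
  rw [add_zero] at this
  exact left_eq_add.mp this

/-- An additive map commuting with a generator is a multiplication. -/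
theorem lin_eq {ω : F} (hgen : ∀ x : F, x ≠ 0 → ∃ k : ℕ, ω ^ k = x) (f : F → F)
    (hadd : ∀ x y, f (x + y) = f x + f y) (hω : ∀ x, f (ω * x) = ω * f x) (x : F) :
    f x = x * f 1 := by
  have h : ∀ k : ℕ, ∀ y, f (ω ^ k * y) = ω ^ k * f y := by
    intro k
    induction k with
    | zero => intro y; simp
    | succ i ih => intro y; rw [pow_succ', mul_assoc, hω, ih, mul_assoc]
  rcases eq_or_ne x 0 with rfl | hx
  · rw [zero_mul, map_zero_of_add f hadd]
  · obtain ⟨k, rfl⟩ := hgen x hx
    simpa using h k 1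

/-- A biadditive map commuting with a generator is a square root of the product. -/
theorem bil_sq {ω : F} (hgen : ∀ x : F, x ≠ 0 → ∃ k : ℕ, ω ^ k = x) (B : F → F → F)
    (hl : ∀ x y z, B (x + y) z = B x z + B y z) (hr : ∀ x y z, B x (y + z) = B x y + B x z)
    (hω : ∀ x y, B (ω * x) (ω * y) = ω * B x y) (x y : F) : B x y ^ 2 = B 1 1 ^ 2 * (x * y) := by
  have hsc : ∀ c x y, B (c * x) (c * y) = c * B x y := by
    intro c
    rcases eq_or_ne c 0 with rfl | hc
    · intro x y
      rw [zero_mul, zero_mul, zero_mul]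
      exact map_zero_of_add (fun t => B 0 t) (hr 0)
    · obtain ⟨k, rfl⟩ := hgen c hc
      clear hc
      induction k with
      | zero => intro x y; simp
      | succ i ih => intro x y; rw [pow_succ', mul_assoc, mul_assoc, hω, ih, mul_assoc]
  have hmove : ∀ m x y, B (m * x) y = B x (m * y) := by
    intro m x y
    have h := hsc (1 + m) x y
    rw [add_mul, one_mul, add_mul, one_mul, hl, hr, hr, hsc m x y, add_mul, one_mul] at h
    have h' : B (m * x) y + B x (m * y) = 0 := by linear_combination h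
    exact CharTwo.add_eq_zero.1 h'
  have key : ∀ x y, B x y = B 1 (x * y) := fun x y => by
    have := hmove x 1 y
    rwa [mul_one] at this
  have hh : ∀ c z, c * B 1 z = B 1 (c * c * z) := fun c z => by
    rw [← hsc c 1 z, mul_one, key c (c * z), mul_assoc]
  obtain ⟨r, hr⟩ := frobenius_surjective_two (x * y)
  rw [key x y, ← hr, ← mul_one (r ^ 2), sq r, ← hh r 1]
  ring

end Field

/-- An involutory automorphism of a nontrivial 2-group fixes a nontrivial central element. -/
theorem exists_fixed_invol {N : Type*} [Group N] [Finite N] [Nontrivial N] (hN : IsPGroup 2 N)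
    (a : MulAut N) (ha : ∀ x, a (a x) = x) : ∃ x ∈ Subgroup.center N, x ≠ 1 ∧ a x = x := by
  haveI : Fact (Nat.Prime 2) := ⟨Nat.prime_two⟩
  haveI : Nontrivial (Subgroup.center N) := hN.center_nontrivial
  have h2 : 2 ∣ Nat.card (Subgroup.center N) := by
    obtain ⟨k, hk⟩ := IsPGroup.iff_card.1 (hN.to_subgroup (Subgroup.center N))
    have : 1 < Nat.card (Subgroup.center N) := Finite.one_lt_card
    rw [hk] at this ⊢
    exact dvd_pow_self 2 (by rintro rfl; simp at this)
  obtain ⟨⟨z, hz⟩, hzo⟩ := exists_prime_orderOf_dvd_card' 2 h2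
  rw [← Subgroup.orderOf_coe] at hzo
  change orderOf z = 2 at hzo
  have hz1 : z ≠ 1 := fun h => by rw [h, orderOf_one] at hzo; norm_num at hzo
  have hac : a z ∈ Subgroup.center N := Subgroup.mem_center_iff.2 fun g => by
    obtain ⟨g', rfl⟩ := a.surjective g
    rw [← map_mul, Subgroup.mem_center_iff.1 hz g', map_mul]
  by_cases hfix : a z = z
  · exact ⟨z, hz, hz1, hfix⟩
  have hzz : z * z = 1 := by rw [← sq, ← hzo, pow_orderOf_eq_one]
  refine ⟨z * a z, mul_mem hz hac, fun h => hfix ?_, ?_⟩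
  · exact mul_left_cancel (h.trans hzz.symm)
  · rw [map_mul, ha]
    exact Subgroup.mem_center_iff.1 hz _

/-- The hypotheses: `j` parametrises the fixed points of `α`, and `ρ` multiplies by `ω` there. -/
structure Datum (Q : Type u) [Group Q] (F : Type) [Field F] (ω : F) where
  α : MulAut Q
  ρ : MulAut Q
  pgroup : IsPGroup 2 Q
  invol : ∀ x, α (α x) = x
  comm : ∀ x, α (ρ x) = ρ (α x)
  j : F → Q
  j_inj : Function.Injective j
  j_add : ∀ a b, j (a + b) = j a * j b
  mem : ∀ x, (∃ a, j a = x) ↔ α x = x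
  equiv : ∀ a, ρ (j a) = j (ω * a)
  period : ρ ^ (Nat.card F - 1) = 1
  gen : ∀ x : F, x ≠ 0 → ∃ k : ℕ, ω ^ k = x

namespace Datum

variable {Q : Type u} [Group Q] {F : Type} [Field F] {ω : F} (D : Datum Q F ω)

theorem j_zero : D.j 0 = 1 := by
  have := D.j_add 0 0
  rw [add_zero] at this
  exact left_eq_mul.mp this

variable [CharP F 2]

theorem j_self (a : F) : D.j a * D.j a = 1 := by
  rw [← D.j_add, CharTwo.add_self_eq_zero, D.j_zero]

theorem j_inv (a : F) : (D.j a)⁻¹ = D.j a := inv_eq_of_mul_eq_one_right (D.j_self a)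

theorem α_j (a : F) : D.α (D.j a) = D.j a := (D.mem _).1 ⟨a, rfl⟩

include D in
/-- A set containing a nontrivial fixed point and invariant under `ρ` and products contains all
fixed points. -/
theorem all_fixed {P : F → Prop} (h0 : P 0) {a : F} (ha : a ≠ 0) (hP : P a)
    (hω : ∀ x, P x → P (ω * x)) (x : F) : P x := by
  rcases eq_or_ne x 0 with rfl | hx
  · exact h0
  obtain ⟨k, hk⟩ := D.gen (x / a) (div_ne_zero hx ha)
  have h : ∀ k : ℕ, P (ω ^ k * a) := fun k => by
    induction k with
    | zero => simpa using hP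
    | succ i ih => rw [pow_succ', mul_assoc]; exact hω _ ih
  have := h k
  rwa [hk, div_mul_cancel₀ x ha] at this

/-- The fixed points are central. -/
theorem j_center [Finite Q] (a : F) : D.j a ∈ Subgroup.center Q := by
  by_cases hQ : Nontrivial Q
  · haveI := hQ
    obtain ⟨x, hx, hx1, hxα⟩ := exists_fixed_invol D.pgroup D.α D.invol
    obtain ⟨c, rfl⟩ := (D.mem x).2 hxα
    have hc : c ≠ 0 := fun h => hx1 (by rw [h, D.j_zero])
    refine D.all_fixed (P := fun a => D.j a ∈ Subgroup.center Q) ?_ hc hx (fun y hy => ?_) a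
    · rw [D.j_zero]; exact one_mem _
    · refine Subgroup.mem_center_iff.2 fun g => ?_
      obtain ⟨g', rfl⟩ := D.ρ.surjective g
      rw [← D.equiv, ← map_mul, Subgroup.mem_center_iff.1 hy g', map_mul]
  · haveI := not_nontrivial_iff_subsingleton.1 hQ
    rw [Subsingleton.elim (D.j a) 1]
    exact one_mem _

theorem j_comm [Finite Q] (a : F) (g : Q) : g * D.j a = D.j a * g :=
  Subgroup.mem_center_iff.1 (D.j_center a) g

/-- The subgroup of fixed points. -/
def C : Subgroup Q where
  carrier := {x | ∃ a, D.j a = x}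
  one_mem' := ⟨0, D.j_zero⟩
  mul_mem' := by
    rintro _ _ ⟨a, rfl⟩ ⟨b, rfl⟩
    exact ⟨a + b, D.j_add a b⟩
  inv_mem' := by
    rintro _ ⟨a, rfl⟩
    exact ⟨a, (D.j_inv a).symm⟩

theorem mem_C {x : Q} : x ∈ D.C ↔ ∃ a, D.j a = x := Iff.rfl

theorem j_mem (a : F) : D.j a ∈ D.C := ⟨a, rfl⟩

variable [Finite Q]

instance C_normal : D.C.Normal := ⟨fun x hx g => by
  obtain ⟨a, rfl⟩ := D.mem_C.1 hx
  rw [D.j_comm a g, mul_inv_cancel_right]
  exact D.j_mem a⟩

theorem map_α : D.C.map (D.α : Q →* Q) = D.C := by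
  ext x
  constructor
  · rintro ⟨_, ⟨a, rfl⟩, rfl⟩
    exact ⟨a, (D.α_j a).symm⟩
  · rintro ⟨a, rfl⟩
    exact ⟨D.j a, D.j_mem a, D.α_j a⟩

theorem map_ρ : D.C.map (D.ρ : Q →* Q) = D.C := by
  ext x
  constructor
  · rintro ⟨_, ⟨a, rfl⟩, rfl⟩
    exact ⟨ω * a, (D.equiv a).symm⟩
  · rintro ⟨a, rfl⟩
    obtain ⟨y, hy⟩ := D.ρ.surjective (D.j a)
    refine ⟨y, (D.mem y).2 (D.ρ.injective ?_), hy⟩
    rw [← D.comm, hy, D.α_j]

theorem ρ_pow_j (k : ℕ) (a : F) : (D.ρ ^ k) (D.j a) = D.j (ω ^ k * a) := by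
  induction k generalizing a with
  | zero => simp
  | succ i ih => rw [pow_succ, MulAut.mul_apply, D.equiv, ih, pow_succ, mul_assoc]

theorem diff_mul {g h : Q} {a b : F} (hg : g⁻¹ * D.α g = D.j a) (hh : h⁻¹ * D.α h = D.j b) :
    (g * h)⁻¹ * D.α (g * h) = D.j (a + b) := by
  calc (g * h)⁻¹ * D.α (g * h) = h⁻¹ * (g⁻¹ * D.α g) * D.α h := by rw [map_mul]; group
    _ = D.j a * (h⁻¹ * D.α h) := by rw [hg, D.j_comm a h⁻¹, mul_assoc]
    _ = D.j (a + b) := by rw [hh, D.j_add]

theorem diff_eq_iff (g h : Q) :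
    (g : Q ⧸ D.C) = h ↔ g⁻¹ * D.α g = h⁻¹ * D.α h := by
  constructor
  · intro hgh
    obtain ⟨c, hc⟩ := D.mem_C.1 (QuotientGroup.eq.1 hgh)
    calc g⁻¹ * D.α g = D.j c * D.j c * (g⁻¹ * D.α g) := by rw [D.j_self, one_mul]
      _ = D.j c * (g⁻¹ * D.α g * D.j c) := by rw [mul_assoc, D.j_comm c (g⁻¹ * D.α g)]
      _ = (g * D.j c)⁻¹ * D.α (g * D.j c) := by
        rw [map_mul, D.α_j, mul_inv_rev, D.j_inv]; group
      _ = h⁻¹ * D.α h := by rw [hc, mul_inv_cancel_left]
  · intro he
    have h1 : D.α (h * g⁻¹) = h * g⁻¹ := by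
      have e1 : D.α g = g * (h⁻¹ * D.α h) := by rw [← he, mul_inv_cancel_left]
      rw [map_mul, map_inv, e1]; group
    obtain ⟨c, hc⟩ := D.mem_C.1 ((D.mem _).2 h1 : h * g⁻¹ ∈ D.C)
    rw [show h = g * D.j c by rw [D.j_comm c g, hc, inv_mul_cancel_right], QuotientGroup.eq,
      inv_mul_cancel_left]
    exact D.j_mem c

/-- The quotient by the fixed points has the same shape, unless it is trivial. -/
theorem exists_quotient (hne : D.C ≠ ⊤) :
    ∃ N : Datum (Q ⧸ D.C) F ω, (∀ g : Q, N.α g = (D.α g : Q ⧸ D.C)) ∧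
      (∀ g : Q, N.ρ g = (D.ρ g : Q ⧸ D.C)) ∧
      ∀ (g : Q) (a : F), N.j a = (g : Q ⧸ D.C) ↔ g⁻¹ * D.α g = D.j a := by
  classical
  let α' : MulAut (Q ⧸ D.C) := QuotientGroup.congr D.C D.C D.α D.map_α
  let ρ' : MulAut (Q ⧸ D.C) := QuotientGroup.congr D.C D.C D.ρ D.map_ρ
  have hα' : ∀ g : Q, α' g = (D.α g : Q ⧸ D.C) := fun g => rfl
  have hρ' : ∀ g : Q, ρ' g = (D.ρ g : Q ⧸ D.C) := fun g => rfl
  have hinv : ∀ x, α' (α' x) = x := fun x => by
    induction x using QuotientGroup.induction_on with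
    | H g => rw [hα', hα', D.invol]
  have hmemN : ∀ g : Q, α' (g : Q ⧸ D.C) = g ↔ ∃ a, g⁻¹ * D.α g = D.j a := fun g => by
    rw [hα', eq_comm, QuotientGroup.eq]
    exact ⟨fun ⟨a, ha⟩ => ⟨a, ha.symm⟩, fun ⟨a, ha⟩ => ⟨a, ha.symm⟩⟩
  have hρg : ∀ (g : Q) (a : F), g⁻¹ * D.α g = D.j a →
      (D.ρ g)⁻¹ * D.α (D.ρ g) = D.j (ω * a) := fun g a hg => by
    rw [D.comm, ← map_inv, ← map_mul, hg, D.equiv]
  have hex : ∀ a : F, ∃ g : Q, g⁻¹ * D.α g = D.j a := by
    haveI : Nontrivial (Q ⧸ D.C) := QuotientGroup.nontrivial_iff.2 hne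
    obtain ⟨x, -, hx1, hxf⟩ := exists_fixed_invol (D.pgroup.to_quotient D.C) α' hinv
    induction x using QuotientGroup.induction_on with
    | H g =>
      obtain ⟨b, hb⟩ := (hmemN g).1 hxf
      have hb0 : b ≠ 0 := fun h => hx1 (by
        rw [h, D.j_zero, inv_mul_eq_one] at hb
        exact (QuotientGroup.eq_one_iff g).2 ((D.mem g).2 hb.symm))
      exact D.all_fixed (P := fun a => ∃ g : Q, g⁻¹ * D.α g = D.j a) ⟨1, by simp [D.j_zero]⟩ hb0
        ⟨g, hb⟩ fun y ⟨h, hh⟩ => ⟨D.ρ h, hρg h y hh⟩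
  choose lift hlift using hex
  have hj : ∀ (g : Q) (a : F), (lift a : Q ⧸ D.C) = g ↔ g⁻¹ * D.α g = D.j a := fun g a => by
    rw [D.diff_eq_iff, hlift, eq_comm]
  refine ⟨{ α := α'
            ρ := ρ'
            pgroup := D.pgroup.to_quotient D.C
            invol := hinv
            comm := fun x => by
              induction x using QuotientGroup.induction_on with
              | H g => rw [hρ', hα', hα', hρ', D.comm]
            j := fun a => (lift a : Q ⧸ D.C)
            j_inj := fun a b h => D.j_inj (by rw [← hlift a, ← hlift b, (D.diff_eq_iff _ _).1 h])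
            j_add := fun a b => by
              rw [← QuotientGroup.mk_mul, hj]
              exact D.diff_mul (hlift a) (hlift b)
            mem := fun x => by
              induction x using QuotientGroup.induction_on with
              | H g =>
                rw [hmemN]
                exact exists_congr fun a => hj g a
            equiv := fun a => by
              rw [hρ', eq_comm, hj]
              exact hρg _ a (hlift a)
            period := by
              have hk : ∀ k : ℕ, ∀ g : Q, (ρ' ^ k) (g : Q ⧸ D.C) = ((D.ρ ^ k) g : Q ⧸ D.C) := by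
                intro k
                induction k with
                | zero => intro g; rfl
                | succ i ih => intro g; rw [pow_succ, MulAut.mul_apply, hρ', ih]; rfl
              refine MulEquiv.ext fun x => ?_
              induction x using QuotientGroup.induction_on with
              | H g => rw [hk, D.period]; rfl
            gen := D.gen }, hα', hρ', hj⟩

end Datum

end CfsgLib.InvFixedSinger
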