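import Cfsg.Agent.Lib.InvFixedSinger.Basic

/-!
Commutation criteria, and the squaring form when the quotient by the fixed points is elementary
abelian.
-/

set_option autoImplicit false
set_option linter.unusedSectionVars false

namespace CfsgLib.InvFixedSinger

universe u

namespace Datum

variable {Q : Type u} [Group Q] [Finite Q] {F : Type} [Field F] [CharP F 2] [Finite F] {ω : F}
  (D : Datum Q F ω)

theorem comm_of_sq_one {H : Type*} [Group H] (h : ∀ x : H, x * x = 1) (x y : H) : x * y = y * x := by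
  have e : ∀ z : H, z⁻¹ = z := fun z => inv_eq_of_mul_eq_one_right (h z)
  rw [← e (x * y), mul_inv_rev, e, e]

/-- The description of a non-abelian group: squares form a binary quadratic form. -/
structure Form where
  π : Q → F × F
  π_mul : ∀ g h, π (g * h) = π g + π h
  surj : ∀ v, ∃ g, π g = v
  ker : ∀ g, π g = 0 ↔ g ∈ D.C
  π_ρ : ∀ g, π (D.ρ g) = (ω * (π g).1, ω * (π g).2)
  π_α : ∀ g, π (D.α g) = ((π g).1, (π g).2 + (π g).1)
  A : F
  B : F
  hB : B ≠ 0
  sq : ∀ g, ∃ c, g * g = D.j c ∧ c ^ 2 = A * (π g).1 ^ 2 + B * ((π g).2 ^ 2 + (π g).2 * (π g).1)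

theorem j_move (a : F) (g h : Q) : g * D.j a * h = g * h * D.j a := by
  rw [mul_assoc, ← D.j_comm a h, ← mul_assoc]

/-- A subgroup over a single layer is commutative. -/
theorem comm_of_top (S : Subgroup Q) (hρS : ∀ g ∈ S, D.ρ g ∈ S) (θ : Q → F)
    (hadd : ∀ g ∈ S, ∀ h ∈ S, θ (g * h) = θ g + θ h) (hω : ∀ g ∈ S, θ (D.ρ g) = ω * θ g)
    (hsurj : ∀ x, ∃ g ∈ S, θ g = x) (hker : ∀ g ∈ S, θ g = 0 → ∀ h ∈ S, g * h = h * g)
    (hcom : ∀ g ∈ S, ∀ h ∈ S, ∃ a, g * h = h * g * D.j a) : ∀ g ∈ S, ∀ h ∈ S, g * h = h * g := by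
  classical
  choose κ hκ using hcom
  choose s hsS hs using hsurj
  let β : F → F → F := fun x y => κ (s x) (hsS x) (s y) (hsS y)
  have huniq : ∀ g (hg : g ∈ S) h (hh : h ∈ S) a, g * h = h * g * D.j a → κ g hg h hh = a :=
    fun g hg h hh a e => D.j_inj (mul_left_cancel ((hκ g hg h hh).symm.trans e))
  have h0 : θ 1 = 0 := by
    have := hadd 1 (one_mem _) 1 (one_mem _)
    rw [one_mul] at this
    exact left_eq_add.mp this
  have hsame : ∀ g (hg : g ∈ S), ∃ t ∈ S, g = s (θ g) * t ∧ ∀ k ∈ S, t * k = k * t := by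
    intro g hg
    have ht : (s (θ g))⁻¹ * g ∈ S := mul_mem (inv_mem (hsS _)) hg
    refine ⟨_, ht, (mul_inv_cancel_left _ _).symm, hker _ ht ?_⟩
    have h1 := hadd (s (θ g)) (hsS _) _ ht
    rw [mul_inv_cancel_left, hs] at h1
    exact left_eq_add.mp h1
  have hred : ∀ g (hg : g ∈ S) h (hh : h ∈ S), κ g hg h hh = β (θ g) (θ h) := by
    intro g hg h hh
    obtain ⟨t, ht, eg, htc⟩ := hsame g hg
    obtain ⟨u, hu, eh, huc⟩ := hsame h hh
    apply huniq
    calc g * h = s (θ g) * t * (s (θ h) * u) := by rw [← eg, ← eh]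
      _ = s (θ g) * (t * s (θ h)) * u := by group
      _ = s (θ g) * s (θ h) * (t * u) := by rw [htc _ (hsS _)]; group
      _ = s (θ h) * s (θ g) * D.j (β (θ g) (θ h)) * (u * t) := by
          rw [hκ (s (θ g)) (hsS _) (s (θ h)) (hsS _), huc t ht]
      _ = s (θ h) * (s (θ g) * u) * t * D.j (β (θ g) (θ h)) := by rw [D.j_move]; group
      _ = s (θ h) * u * (s (θ g) * t) * D.j (β (θ g) (θ h)) := by rw [← huc _ (hsS _)]; group
      _ = h * g * D.j (β (θ g) (θ h)) := by rw [← eg, ← eh]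
  have hK : ∀ x y, s x * s y = s y * s x * D.j (β x y) := fun x y =>
    hκ (s x) (hsS x) (s y) (hsS y)
  have hl : ∀ x y z, β (x + y) z = β x z + β y z := by
    intro x y z
    have h1 := hred (s x * s y) (mul_mem (hsS x) (hsS y)) (s z) (hsS z)
    rw [hadd _ (hsS x) _ (hsS y), hs, hs, hs] at h1
    rw [← h1]
    apply huniq
    calc s x * s y * s z = s x * (s z * s y * D.j (β y z)) := by rw [mul_assoc, hK y z]
      _ = s x * s z * s y * D.j (β y z) := by group
      _ = s z * s x * D.j (β x z) * s y * D.j (β y z) := by rw [hK x z]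
      _ = s z * (s x * s y) * D.j (β x z + β y z) := by rw [D.j_move, D.j_add]; group
  have hr : ∀ x y z, β x (y + z) = β x y + β x z := by
    intro x y z
    have h1 := hred (s x) (hsS x) (s y * s z) (mul_mem (hsS y) (hsS z))
    rw [hadd _ (hsS y) _ (hsS z), hs, hs, hs] at h1
    rw [← h1]
    apply huniq
    calc s x * (s y * s z) = s y * s x * D.j (β x y) * s z := by rw [← mul_assoc, hK x y]
      _ = s y * (s x * s z) * D.j (β x y) := by rw [D.j_move]; group
      _ = s y * (s z * s x * D.j (β x z)) * D.j (β x y) := by rw [hK x z]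
      _ = s y * s z * s x * D.j (β x y + β x z) := by rw [add_comm (β x y), D.j_add]; group
  have hβω : ∀ x y, β (ω * x) (ω * y) = ω * β x y := by
    intro x y
    have h1 := hred (D.ρ (s x)) (hρS _ (hsS x)) (D.ρ (s y)) (hρS _ (hsS y))
    rw [hω _ (hsS x), hω _ (hsS y), hs, hs] at h1
    rw [← h1]
    apply huniq
    rw [← map_mul, hκ (s x) (hsS x) (s y) (hsS y), map_mul, map_mul, D.equiv]
  have hdiag : β 1 1 = 0 := huniq _ _ _ _ _ (by rw [D.j_zero, mul_one])
  intro g hg h hh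
  have hz : κ g hg h hh = 0 := by
    rw [hred]
    have := bil_sq D.gen β hl hr hβω (θ g) (θ h)
    rwa [hdiag, zero_pow two_ne_zero, zero_mul, pow_eq_zero_iff two_ne_zero] at this
  rw [hκ g hg h hh, hz, D.j_zero, mul_one]

include D in
theorem omega_ne_zero (h4 : 4 ≤ Nat.card F) : ω ≠ 0 := by
  intro h
  haveI := Fintype.ofFinite F
  classical
  obtain ⟨x, hx⟩ : ∃ x : F, x ∉ ({0, 1} : Finset F) := by
    by_contra hall
    push Not at hall
    have h1 := Finset.card_le_card (fun x _ => hall x : (Finset.univ : Finset F) ⊆ {0, 1})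
    have h2 := Finset.card_le_two (a := (0 : F)) (b := 1)
    rw [Finset.card_univ, ← Nat.card_eq_fintype_card] at h1
    omega
  simp only [Finset.mem_insert, Finset.mem_singleton, not_or] at hx
  obtain ⟨k, hk⟩ := D.gen x hx.1
  rcases k with _ | k
  · exact hx.2 (by simpa using hk.symm)
  · exact hx.1 (by rw [← hk, h, zero_pow (Nat.succ_ne_zero k)])

/-- An equivariant additive section, by averaging. -/
theorem exists_section (h4 : 4 ≤ Nat.card F) (N : Datum (Q ⧸ D.C) F ω)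
    (hexp : ∀ x : Q ⧸ D.C, x * x = 1) (δ : Q ⧸ D.C → F) (hδ : ∀ x y, δ (x * y) = δ x + δ y)
    (hδρ : ∀ x, δ (N.ρ x) = ω * δ x) (hsurj : Function.Surjective δ) :
    ∃ s : F → Q ⧸ D.C, (∀ a b, s (a + b) = s a * s b) ∧ (∀ a, N.ρ (s a) = s (ω * a)) ∧
      ∀ a, δ (s a) = a := by
  classical
  haveI := Fintype.ofFinite F
  letI : CommGroup (Q ⧸ D.C) :=
    { (inferInstance : Group (Q ⧸ D.C)) with mul_comm := comm_of_sq_one hexp }
  letI : Module (ZMod 2) (Additive (Q ⧸ D.C)) := AddCommGroup.zmodModule fun x => by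
    rw [two_nsmul]; exact hexp _
  letI : Module (ZMod 2) F := AddCommGroup.zmodModule fun x => by
    rw [two_nsmul, CharTwo.add_self_eq_zero]
  let δl : Additive (Q ⧸ D.C) →ₗ[ZMod 2] F :=
    (AddMonoidHom.mk' (fun x : Additive (Q ⧸ D.C) => δ (Additive.toMul x))
      (fun x y => hδ _ _)).toZModLinearMap 2
  obtain ⟨σ, hσ⟩ := δl.exists_rightInverse_of_surjective (LinearMap.range_eq_top.2 hsurj)
  set s0 : F → Q ⧸ D.C := fun a => Additive.toMul (σ a) with hs0
  have hs0a : ∀ a b, s0 (a + b) = s0 a * s0 b := fun a b => by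
    simp only [hs0, map_add, toMul_add]
  have hs0d : ∀ a, δ (s0 a) = a := fun a => LinearMap.congr_fun hσ a
  set m := Nat.card F - 1 with hm
  have hωm : ω ^ m = 1 := by
    rw [hm, Nat.card_eq_fintype_card]
    exact FiniteField.pow_card_sub_one_eq_one ω (D.omega_ne_zero h4)
  let f : F → ℕ → Q ⧸ D.C := fun a k => (N.ρ ^ k) (s0 (ω⁻¹ ^ k * a))
  refine ⟨fun a => ∏ k ∈ Finset.range m, f a k, fun a b => ?_, fun a => ?_, fun a => ?_⟩
  · rw [← Finset.prod_mul_distrib]
    refine Finset.prod_congr rfl fun k _ => ?_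
    simp only [f, mul_add, hs0a, map_mul]
  · rw [map_prod]
    have h1 : ∀ k, N.ρ (f a k) = f (ω * a) (k + 1) := fun k => by
      show N.ρ ((N.ρ ^ k) (s0 (ω⁻¹ ^ k * a))) = (N.ρ ^ (k + 1)) (s0 (ω⁻¹ ^ (k + 1) * (ω * a)))
      rw [pow_succ' N.ρ, MulAut.mul_apply, pow_succ ω⁻¹, mul_assoc (ω⁻¹ ^ k) ω⁻¹, ← mul_assoc ω⁻¹,
        inv_mul_cancel₀ (D.omega_ne_zero h4), one_mul]
    rw [Finset.prod_congr rfl fun k _ => h1 k]
    have h2 : f (ω * a) m = f (ω * a) 0 := by
      show (N.ρ ^ m) (s0 (ω⁻¹ ^ m * (ω * a))) = (N.ρ ^ 0) (s0 (ω⁻¹ ^ 0 * (ω * a)))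
      rw [hm, N.period, ← hm, inv_pow, hωm, inv_one, pow_zero, pow_zero]
    have h3 := Finset.prod_range_succ (f (ω * a)) m
    rw [Finset.prod_range_succ', h2] at h3
    exact mul_right_cancel h3
  · have hδp : ∀ k x, δ ((N.ρ ^ k) x) = ω ^ k * δ x := fun k => by
      induction k with
      | zero => intro x; simp
      | succ i ih => intro x; rw [pow_succ, MulAut.mul_apply, ih, hδρ, pow_succ, mul_assoc]
    have hsum : ∀ n, δ (∏ k ∈ Finset.range n, f a k) = (n : F) * a := fun n => by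
      induction n with
      | zero =>
        have := hδ 1 1
        rw [one_mul] at this
        simpa using left_eq_add.mp this
      | succ i ih =>
        rw [Finset.prod_range_succ, hδ, ih, hδp, hs0d, ← mul_assoc, ← mul_pow,
          mul_inv_cancel₀ (D.omega_ne_zero h4), one_pow, Nat.cast_succ, add_mul, one_mul]
    rw [hsum, hm, Nat.cast_sub Finite.card_pos, Nat.cast_one, Nat.card_eq_fintype_card,
      FiniteField.cast_card_eq_zero, zero_sub, CharTwo.neg_eq, one_mul]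

/-- The layer structure when the quotient is elementary abelian and has two layers. -/
theorem form_of_elementary (h4 : 4 ≤ Nat.card F) (N : Datum (Q ⧸ D.C) F ω)
    (hNα : ∀ g : Q, N.α g = (D.α g : Q ⧸ D.C)) (hNρ : ∀ g : Q, N.ρ g = (D.ρ g : Q ⧸ D.C))
    (hexp : ∀ x : Q ⧸ D.C, x * x = 1) (hne : N.C ≠ ⊤) :
    (∀ g h : Q, g * h = h * g) ∨ Nonempty D.Form := by
  classical
  have hNc : ∀ x y : Q ⧸ D.C, x * y = y * x := comm_of_sq_one hexp
  obtain ⟨N', -, hN'ρ, hj'⟩ := N.exists_quotient hne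
  -- differences lie in the fixed points
  have hδex : ∀ x : Q ⧸ D.C, ∃ a, x⁻¹ * N.α x = N.j a := fun x => by
    obtain ⟨a, ha⟩ := (N.mem (x⁻¹ * N.α x)).2 (by
      rw [map_mul, map_inv, N.invol, inv_eq_of_mul_eq_one_right (hexp x),
        inv_eq_of_mul_eq_one_right (hexp (N.α x))]
      exact hNc _ _)
    exact ⟨a, ha.symm⟩
  choose δ hδ using hδex
  have hδadd : ∀ x y, δ (x * y) = δ x + δ y := fun x y => N.j_inj (by
    rw [← hδ (x * y)]
    exact N.diff_mul (hδ x) (hδ y))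
  have hδρ : ∀ x, δ (N.ρ x) = ω * δ x := fun x => N.j_inj (by
    rw [← hδ (N.ρ x), N.comm, ← map_inv, ← map_mul, hδ, N.equiv])
  have hδsurj : Function.Surjective δ := fun a => by
    obtain ⟨x, hx⟩ := QuotientGroup.mk_surjective (s := N.C) (N'.j a)
    exact ⟨x, N.j_inj ((hδ x).symm.trans ((hj' x a).1 hx.symm))⟩
  have hδker : ∀ x, δ x = 0 → ∃ a, N.j a = x := fun x hx => by
    refine (N.mem x).2 ?_
    have := hδ x
    rw [hx, N.j_zero, inv_mul_eq_one] at this
    exact this.symm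
  have hδj : ∀ a, δ (N.j a) = 0 := fun a => N.j_inj (by
    rw [← hδ (N.j a), N.α_j, inv_mul_cancel, N.j_zero])
  obtain ⟨s, hsadd, hsρ, hsδ⟩ := D.exists_section h4 N hexp δ hδadd hδρ hδsurj
  -- coordinates
  let P : F × F → Q ⧸ D.C := fun v => s v.1 * N.j v.2
  have hPadd : ∀ v w, P (v + w) = P v * P w := fun v w => by
    show s (v.1 + w.1) * N.j (v.2 + w.2) = s v.1 * N.j v.2 * (s w.1 * N.j w.2)
    rw [hsadd, N.j_add]
    simp only [mul_assoc]
    rw [← mul_assoc (s w.1), hNc (s w.1) (N.j v.2), mul_assoc]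
  have hPδ : ∀ v, δ (P v) = v.1 := fun v => by rw [hδadd, hsδ, hδj, add_zero]
  have hPinj : Function.Injective P := fun v w h => by
    have h1 : v.1 = w.1 := by rw [← hPδ v, ← hPδ w, h]
    refine Prod.ext h1 (N.j_inj ?_)
    change s v.1 * N.j v.2 = s w.1 * N.j w.2 at h
    rw [h1] at h
    exact mul_left_cancel h
  have hPsurj : Function.Surjective P := fun x => by
    obtain ⟨a, ha⟩ := hδker (x * s (δ x)) (by rw [hδadd, hsδ, CharTwo.add_self_eq_zero])
    refine ⟨(δ x, a), ?_⟩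
    show s (δ x) * N.j a = x
    rw [ha, hNc, mul_assoc, hexp, mul_one]
  let e := Equiv.ofBijective P ⟨hPinj, hPsurj⟩
  let π : Q → F × F := fun g => e.symm (g : Q ⧸ D.C)
  have hπ : ∀ g v, π g = v ↔ P v = (g : Q ⧸ D.C) := fun g v => by
    rw [eq_comm, Equiv.eq_symm_apply]; rfl
  have hPπ : ∀ g, P (π g) = (g : Q ⧸ D.C) := fun g => (hπ g _).1 rfl
  have hπmul : ∀ g h, π (g * h) = π g + π h := fun g h => by
    rw [hπ, hPadd, hPπ, hPπ, QuotientGroup.mk_mul]
  have hπsurj : ∀ v, ∃ g, π g = v := fun v => by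
    obtain ⟨g, hg⟩ := QuotientGroup.mk_surjective (P v)
    exact ⟨g, (hπ g v).2 hg.symm⟩
  have hP0 : P 0 = 1 := by
    have := hPadd 0 0
    rw [add_zero] at this
    exact left_eq_mul.mp this
  have hπker : ∀ g, π g = 0 ↔ g ∈ D.C := fun g => by
    rw [hπ, hP0, eq_comm, QuotientGroup.eq_one_iff]
  have hπρ : ∀ g, π (D.ρ g) = (ω * (π g).1, ω * (π g).2) := fun g => by
    rw [hπ, ← hNρ, ← hPπ g, map_mul, hsρ, N.equiv]
  have hπα : ∀ g, π (D.α g) = ((π g).1, (π g).2 + (π g).1) := fun g => by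
    rw [hπ, ← hNα, ← hPπ g]
    show s (π g).1 * N.j ((π g).2 + (π g).1) = N.α (s (π g).1 * N.j (π g).2)
    have h1 := hδ (s (π g).1)
    rw [hsδ, inv_mul_eq_iff_eq_mul] at h1
    rw [map_mul, N.α_j, h1, N.j_add]
    simp only [mul_assoc]
    rw [hNc (N.j (π g).2)]
  -- the squaring map
  have hsqex : ∀ g : Q, ∃ c, g * g = D.j c := fun g => by
    obtain ⟨c, hc⟩ := D.mem_C.1 ((QuotientGroup.eq_one_iff (g * g)).1 (by
      rw [QuotientGroup.mk_mul]; exact hexp _))
    exact ⟨c, hc.symm⟩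
  choose c hc using hsqex
  have hcomm : ∀ g h : Q, ∃ b, g * h = h * g * D.j b := fun g h => by
    obtain ⟨b, hb⟩ := D.mem_C.1 ((QuotientGroup.eq_one_iff ((h * g)⁻¹ * (g * h))).1 (by
      rw [QuotientGroup.mk_mul, QuotientGroup.mk_inv, QuotientGroup.mk_mul, QuotientGroup.mk_mul,
        hNc (h : Q ⧸ D.C), inv_mul_cancel]))
    exact ⟨b, by rw [hb, mul_inv_cancel_left]⟩
  choose κ hκ using hcomm
  have hkuniq : ∀ g h b, g * h = h * g * D.j b → κ g h = b :=
    fun g h b e => D.j_inj (mul_left_cancel ((hκ g h).symm.trans e))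
  have hpolar : ∀ g h, c (g * h) = c g + c h + κ g h := fun g h => D.j_inj (by
    rw [← hc (g * h), D.j_add, D.j_add, ← hc, ← hc]
    calc g * h * (g * h) = g * (h * g) * h := by group
      _ = g * (h * g * D.j (κ g h) * D.j (κ g h)) * h := by
          rw [mul_assoc (h * g), D.j_self, mul_one]
      _ = g * (g * h) * D.j (κ g h) * h := by rw [← hκ g h]; group
      _ = g * g * (h * h) * D.j (κ g h) := by rw [D.j_move]; group)
  have hcwd : ∀ g g' : Q, π g = π g' → c g = c g' := fun g g' h => D.j_inj (by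
    obtain ⟨a, ha⟩ := D.mem_C.1 (QuotientGroup.eq.1 (by rw [← hPπ g, ← hPπ g', h] : (g : Q ⧸ D.C) = g'))
    rw [← hc g, ← hc g', show g' = g * D.j a by rw [ha, mul_inv_cancel_left], ← mul_assoc, D.j_move,
      mul_assoc (g * g), D.j_self, mul_one])
  choose r hr using hπsurj
  let S : F × F → F := fun v => c (r v)
  have hcS : ∀ g, c g = S (π g) := fun g => hcwd _ _ (hr _).symm
  let β : F × F → F × F → F := fun v w => S (v + w) + S v + S w
  have hκβ : ∀ g h, κ g h = β (π g) (π h) := fun g h => by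
    have h1 := hpolar g h
    rw [hcS, hπmul, hcS g, hcS h] at h1
    show κ g h = S (π g + π h) + S (π g) + S (π h)
    linear_combination -h1 - (S (π g) + S (π h)) * CharTwo.two_eq_zero (R := F)
  have hl : ∀ u v w, β (u + v) w = β u w + β v w := fun u v w => by
    obtain ⟨g, rfl⟩ : ∃ g, π g = u := ⟨r u, hr u⟩
    obtain ⟨h, rfl⟩ : ∃ g, π g = v := ⟨r v, hr v⟩
    obtain ⟨k, rfl⟩ : ∃ g, π g = w := ⟨r w, hr w⟩
    rw [← hπmul, ← hκβ, ← hκβ, ← hκβ]
    apply hkuniq
    calc g * h * k = g * (k * h * D.j (κ h k)) := by rw [mul_assoc, hκ h k]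
      _ = g * k * h * D.j (κ h k) := by group
      _ = k * g * D.j (κ g k) * h * D.j (κ h k) := by rw [hκ g k]
      _ = k * (g * h) * D.j (κ g k + κ h k) := by rw [D.j_move, D.j_add]; group
  have hsymm : ∀ v w, β v w = β w v := fun v w => by
    show S (v + w) + S v + S w = S (w + v) + S w + S v
    rw [add_comm v w]; ring
  have hrr : ∀ u v w, β u (v + w) = β u v + β u w := fun u v w => by
    rw [hsymm, hl, hsymm v, hsymm w]
  have hSρ : ∀ v, S (ω * v.1, ω * v.2) = ω * S v := fun v => by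
    obtain ⟨g, rfl⟩ : ∃ g, π g = v := ⟨r v, hr v⟩
    rw [← hπρ, ← hcS, ← hcS]
    apply D.j_inj
    rw [← hc (D.ρ g), ← map_mul, hc g, D.equiv]
  have hSα : ∀ v, S (v.1, v.2 + v.1) = S v := fun v => by
    obtain ⟨g, rfl⟩ : ∃ g, π g = v := ⟨r v, hr v⟩
    rw [← hπα, ← hcS, ← hcS]
    apply D.j_inj
    rw [← hc (D.α g), ← map_mul, hc g, D.α_j]
  have hβω : ∀ v w, β (ω * v.1, ω * v.2) (ω * w.1, ω * w.2) = ω * β v w := fun v w => by
    show S _ + S _ + S _ = ω * (S _ + S _ + S _)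
    rw [Prod.mk_add_mk, ← mul_add, ← mul_add, hSρ v, hSρ w,
      show S (ω * (v.1 + w.1), ω * (v.2 + w.2)) = ω * S (v + w) from hSρ (v + w)]
    ring
  have hβself : ∀ v, β v v = 0 := fun v => by
    obtain ⟨g, rfl⟩ : ∃ g, π g = v := ⟨r v, hr v⟩
    rw [← hκβ]
    exact hkuniq _ _ _ (by rw [D.j_zero, mul_one])
  -- the axes
  have hlin : ∀ (i : F → F × F), (∀ x y, i (x + y) = i x + i y) →
      (∀ x, i (ω * x) = (ω * (i x).1, ω * (i x).2)) → ∀ x, S (i x) = x * S (i 1) := by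
    intro i hi hiω
    have hz : ∀ x y, β (i x) (i y) = 0 := fun x y => by
      have h := bil_sq D.gen (fun x y => β (i x) (i y)) (fun a b d => by simp only [hi, hl])
        (fun a b d => by simp only [hi, hrr]) (fun a b => by simp only [hiω, hβω]) x y
      simpa [hβself] using h
    refine lin_eq D.gen (fun x => S (i x)) (fun x y => ?_) (fun x => by simp only [hiω, hSρ])
    have h := hz x y
    change S (i x + i y) + S (i x) + S (i y) = 0 at h
    rw [hi]
    linear_combination h - (S (i x) + S (i y)) * CharTwo.two_eq_zero (R := F)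
  have hy := hlin (fun y => (y, 0)) (fun a b => by simp) (fun a => by simp)
  have hx := hlin (fun x => (0, x)) (fun a b => by simp) (fun a => by simp)
  set a0 := S (1, 0)
  set b0 := S (0, 1)
  set k0 := β (1, 0) (0, 1)
  have hmix : ∀ y x, β (y, 0) (0, x) ^ 2 = k0 ^ 2 * (y * x) :=
    bil_sq D.gen (fun y x => β (y, 0) (0, x))
      (fun a b d => by simp only [← hl, Prod.mk_add_mk, add_zero])
      (fun a b d => by simp only [← hrr, Prod.mk_add_mk, add_zero])
      (fun a b => by simpa using hβω (a, 0) (0, b))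
  have hS : ∀ v, S v = v.1 * a0 + v.2 * b0 + β (v.1, 0) (0, v.2) := fun v => by
    show S v = v.1 * a0 + v.2 * b0 + (S ((v.1, 0) + (0, v.2)) + S (v.1, 0) + S (0, v.2))
    rw [hy, hx, Prod.mk_add_mk, add_zero, zero_add]
    linear_combination -(v.1 * a0 + v.2 * b0) * CharTwo.two_eq_zero (R := F)
  have hk0 : k0 = b0 := by
    have h1 := hS (1, 1)
    have h2 := hSα (1, 0)
    rw [zero_add] at h2
    rw [h2] at h1
    change a0 = 1 * a0 + 1 * b0 + k0 at h1
    linear_combination -h1 - b0 * CharTwo.two_eq_zero (R := F)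
  have hSsq : ∀ v, S v ^ 2 = a0 ^ 2 * v.1 ^ 2 + b0 ^ 2 * (v.2 ^ 2 + v.2 * v.1) := fun v => by
    rw [hS, CharTwo.add_sq, CharTwo.add_sq, mul_pow, mul_pow, hmix, hk0]
    ring
  by_cases hb : b0 = 0
  · left
    have hSlin : ∀ v, S v = v.1 * a0 := fun v => by
      have h := hSsq v
      rw [hb, zero_pow two_ne_zero, zero_mul, add_zero] at h
      have h' : (S v + v.1 * a0) ^ 2 = 0 := by
        rw [CharTwo.add_sq, h, mul_pow, mul_comm (v.1 ^ 2), CharTwo.add_self_eq_zero]
      exact CharTwo.add_eq_zero.1 ((pow_eq_zero_iff two_ne_zero).1 h')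
    intro g h
    have h0 : κ g h = 0 := by
      rw [hκβ]
      show S (π g + π h) + S (π g) + S (π h) = 0
      rw [hSlin, hSlin, hSlin, Prod.fst_add]
      linear_combination ((π g).1 * a0 + (π h).1 * a0) * CharTwo.two_eq_zero (R := F)
    rw [hκ g h, h0, D.j_zero, mul_one]
  · refine Or.inr ⟨⟨π, hπmul, fun v => ⟨r v, hr v⟩, hπker, hπρ, hπα, a0 ^ 2, b0 ^ 2,
      pow_ne_zero 2 hb, fun g => ⟨c g, hc g, by rw [hcS, hSsq]⟩⟩⟩

end Datum

end CfsgLib.InvFixedSinger
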