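import Cfsg.Agent.Lib.InvFixedSinger.Form

/-!
A group with the data of `Datum` is abelian or its squares form a binary quadratic form.
-/

set_option autoImplicit false
set_option linter.unusedSectionVars false

namespace CfsgLib.InvFixedSinger

universe u

namespace Datum

variable {Q : Type u} [Group Q] [Finite Q] {F : Type} [Field F] [CharP F 2] [Finite F] {ω : F}
  (D : Datum Q F ω)

theorem C_eq_top (h : D.C = ⊤) : ∀ g k : Q, g * k = k * g := fun g k => by
  obtain ⟨a, rfl⟩ := D.mem_C.1 (h ▸ Subgroup.mem_top g : g ∈ D.C)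
  exact (D.j_comm a k).symm

theorem exists_comm_mem {g h : Q} (hc : (g : Q ⧸ D.C) * h = h * g) : ∃ a, g * h = h * g * D.j a := by
  obtain ⟨a, ha⟩ := D.mem_C.1 ((QuotientGroup.eq_one_iff ((h * g)⁻¹ * (g * h))).1 (by
    rw [QuotientGroup.mk_mul, QuotientGroup.mk_inv, QuotientGroup.mk_mul, QuotientGroup.mk_mul,
      hc, inv_mul_cancel]))
  exact ⟨a, by rw [ha, mul_inv_cancel_left]⟩

/-- A square commutes with everything commuting with its root up to a fixed point. -/
theorem sq_commute {k h : Q} {a : F} (e : k * h = h * k * D.j a) : k * k * h = h * (k * k) := by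
  calc k * k * h = k * (h * k * D.j a) := by rw [mul_assoc, e]
    _ = k * h * k * D.j a := by group
    _ = h * k * D.j a * k * D.j a := by rw [e]
    _ = h * (k * k) * (D.j a * D.j a) := by rw [D.j_move]; group
    _ = _ := by rw [D.j_self, mul_one]

/-- The case of a commutative quotient without extra involutions. -/
theorem comm_of_abelian (h4 : 4 ≤ Nat.card F) (N : Datum (Q ⧸ D.C) F ω)
    (hNρ : ∀ g : Q, N.ρ g = (D.ρ g : Q ⧸ D.C)) (hNc : ∀ x y : Q ⧸ D.C, x * y = y * x)
    (hΩ : ∀ x : Q ⧸ D.C, x * x = 1 → x ∈ N.C) (hexp : ∃ x : Q ⧸ D.C, x * x ≠ 1) :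
    ∀ g h : Q, g * h = h * g := by
  classical
  have htwo : ∀ x : Q ⧸ D.C, ∃ k : ℕ, x ^ 2 ^ k = 1 := fun x => N.pgroup x
  -- the least exponent
  haveI := Fintype.ofFinite (Q ⧸ D.C)
  choose k hk using htwo
  have hex : ∃ e : ℕ, ∀ x : Q ⧸ D.C, x ^ 2 ^ e = 1 := ⟨Finset.univ.sup k, fun x => by
    obtain ⟨d, hd⟩ := Nat.exists_eq_add_of_le (Finset.le_sup (f := k) (Finset.mem_univ x))
    rw [hd, pow_add, pow_mul, hk, one_pow]⟩
  set e := Nat.find hex with he
  have hee := Nat.find_spec hex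
  rw [← he] at hee
  have he1 : 1 ≤ e := by
    rcases Nat.eq_zero_or_pos e with h0 | h0
    · obtain ⟨x, hx⟩ := hexp
      have := hee x
      rw [h0, pow_zero, pow_one] at this
      rw [this, mul_one] at hx
      exact absurd rfl hx
    · exact h0
  obtain ⟨e', hee'⟩ : ∃ e', e = e' + 1 := ⟨e - 1, by omega⟩
  obtain ⟨x₀, hx₀⟩ : ∃ x : Q ⧸ D.C, x ^ 2 ^ e' ≠ 1 := by
    by_contra hno
    push Not at hno
    have := Nat.find_min' hex hno
    omega
  have htop : ∀ x : Q ⧸ D.C, ∃ a, N.j a = x ^ 2 ^ e' := fun x => N.mem_C.1 (hΩ _ (by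
    rw [← pow_add, ← two_mul, ← pow_succ', ← hee']; exact hee x))
  choose θ hθ using htop
  have hθadd : ∀ x y, θ (x * y) = θ x + θ y := fun x y => N.j_inj (by
    rw [hθ, N.j_add, hθ, hθ, Commute.mul_pow (hNc x y)])
  have hθρ : ∀ x, θ (N.ρ x) = ω * θ x := fun x => N.j_inj (by
    rw [hθ, ← N.equiv, hθ, map_pow])
  have hsurj : ∀ a, ∃ x, θ x = a := by
    refine fun a => N.all_fixed (P := fun a => ∃ x, θ x = a) ⟨1, N.j_inj (by
      rw [hθ, one_pow, N.j_zero])⟩ (a := θ x₀) (fun h => hx₀ (by rw [← hθ, h, N.j_zero])) ⟨x₀, rfl⟩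
      (fun y ⟨x, hx⟩ => ⟨N.ρ x, by rw [hθρ, hx]⟩) a
  -- the kernel consists of squares
  let K : Subgroup (Q ⧸ D.C) :=
    { carrier := {x | θ x = 0}
      one_mem' := N.j_inj (by rw [hθ, one_pow, N.j_zero])
      mul_mem' := fun {x y} hx hy => by
        show θ (x * y) = 0
        rw [hθadd, show θ x = 0 from hx, show θ y = 0 from hy, add_zero]
      inv_mem' := fun {x} hx => N.j_inj (by
        rw [hθ, inv_pow, ← hθ, show θ x = 0 from hx, N.j_zero, inv_one]) }
  let sqh : (Q ⧸ D.C) →* (Q ⧸ D.C) :=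
    { toFun := fun x => x * x
      map_one' := mul_one 1
      map_mul' := fun x y => by
        show x * y * (x * y) = x * x * (y * y)
        rw [mul_assoc, mul_assoc, ← mul_assoc y, hNc y x, mul_assoc x y] }
  have hle : sqh.range ≤ K := by
    rintro _ ⟨x, rfl⟩
    show θ (x * x) = 0
    rw [hθadd, CharTwo.add_self_eq_zero]
  have hkerC : sqh.ker = N.C := by
    ext x
    exact ⟨fun h => hΩ x h, fun h => by
      obtain ⟨a, rfl⟩ := N.mem_C.1 h
      exact N.j_self a⟩
  have hidx : sqh.range.index = Nat.card N.C := by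
    have h1 := sqh.range.index_mul_card
    have h2 := sqh.ker.index_mul_card
    rw [Subgroup.index_ker, hkerC, mul_comm] at h2
    rw [← h2] at h1
    exact Nat.eq_of_mul_eq_mul_right Nat.card_pos h1
  have hCcard : Nat.card N.C = Nat.card F := by
    refine (Nat.card_congr (Equiv.ofBijective (fun a => (⟨N.j a, N.j_mem a⟩ : N.C))
      ⟨fun a b h => N.j_inj (congrArg Subtype.val h), fun ⟨x, hx⟩ => ?_⟩)).symm
    obtain ⟨a, rfl⟩ := N.mem_C.1 hx
    exact ⟨a, rfl⟩
  have hKidx : Nat.card F ≤ K.index := by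
    rw [Subgroup.index_eq_card]
    refine Nat.card_le_card_of_surjective (Quotient.lift θ (fun x y hxy => ?_)) fun a => ?_
    · have h1 : θ (x⁻¹ * y) = 0 := QuotientGroup.leftRel_apply.1 hxy
      have h2 := hθadd x (x⁻¹ * y)
      rw [mul_inv_cancel_left, h1, add_zero] at h2
      exact h2.symm
    · obtain ⟨x, hx⟩ := hsurj a
      exact ⟨(x : (Q ⧸ D.C) ⧸ K), hx⟩
  have hKsq : K ≤ sqh.range := by
    rw [← Subgroup.relIndex_eq_one]
    have h1 := Subgroup.relIndex_mul_index hle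
    have h0 : sqh.range.relIndex K ≠ 0 := Subgroup.index_ne_zero_of_finite
    rw [hidx, hCcard] at h1
    by_contra hne
    have h2 : 2 ≤ sqh.range.relIndex K := by omega
    nlinarith
  intro g h
  refine D.comm_of_top ⊤ (fun _ _ => Subgroup.mem_top _) (fun g => θ (g : Q ⧸ D.C))
    (fun g _ h _ => by rw [QuotientGroup.mk_mul, hθadd]) (fun g _ => by rw [← hNρ, hθρ])
    (fun a => ?_) (fun g _ hg h _ => ?_) (fun g _ h _ => D.exists_comm_mem (hNc _ _)) g
    (Subgroup.mem_top g) h (Subgroup.mem_top h)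
  · obtain ⟨x, hx⟩ := hsurj a
    obtain ⟨g, rfl⟩ := QuotientGroup.mk_surjective x
    exact ⟨g, Subgroup.mem_top g, hx⟩
  · obtain ⟨y, hy⟩ := hKsq (show (g : Q ⧸ D.C) ∈ K from hg)
    obtain ⟨k, rfl⟩ := QuotientGroup.mk_surjective y
    obtain ⟨c, hc⟩ := D.mem_C.1 (QuotientGroup.eq.1
      (show ((k * k : Q) : Q ⧸ D.C) = g from hy))
    have eg : g = k * k * D.j c := by rw [hc, mul_inv_cancel_left]
    obtain ⟨a, ha⟩ := D.exists_comm_mem (hNc (k : Q ⧸ D.C) h)
    rw [eg, D.j_move, D.sq_commute ha, mul_assoc]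

/-- No group has four layers. -/
theorem comm_of_form (h4 : 4 ≤ Nat.card F) (N : Datum (Q ⧸ D.C) F ω)
    (hNα : ∀ g : Q, N.α g = (D.α g : Q ⧸ D.C)) (hNρ : ∀ g : Q, N.ρ g = (D.ρ g : Q ⧸ D.C))
    (Φ : N.Form) : False := by
  classical
  let p : Q → F × F := fun g => Φ.π (g : Q ⧸ D.C)
  have hp : ∀ g h, p (g * h) = p g + p h := fun g h => by
    show Φ.π ((g * h : Q) : Q ⧸ D.C) = _
    rw [QuotientGroup.mk_mul, Φ.π_mul]
  have hp1 : p 1 = 0 := by
    have := hp 1 1
    rw [one_mul] at this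
    exact left_eq_add.mp this
  have hpinv : ∀ g, p g⁻¹ = p g := fun g => by
    have h1 := hp g⁻¹ g
    rw [inv_mul_cancel, hp1] at h1
    rw [← sub_eq_zero, show p g⁻¹ - p g = p g⁻¹ + p g - (p g + p g) by abel, ← h1]
    ext <;> simp [CharTwo.add_self_eq_zero]
  have hpρ : ∀ g, p (D.ρ g) = (ω * (p g).1, ω * (p g).2) := fun g => by
    show Φ.π _ = _; rw [← hNρ]; exact Φ.π_ρ _
  have hpα : ∀ g, p (D.α g) = ((p g).1, (p g).2 + (p g).1) := fun g => by
    show Φ.π _ = _; rw [← hNα]; exact Φ.π_α _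
  have hpsurj : ∀ v, ∃ g, p g = v := fun v => by
    obtain ⟨x, hx⟩ := Φ.surj v
    obtain ⟨g, rfl⟩ := QuotientGroup.mk_surjective x
    exact ⟨g, hx⟩
  -- the second layer
  have hQ2 : ∀ g, p g = 0 → ∃ c, N.j c = (g : Q ⧸ D.C) := fun g hg => N.mem_C.1 ((Φ.ker _).1 hg)
  have hQ2' : ∀ (g : Q) (c : F), N.j c = (g : Q ⧸ D.C) → p g = 0 := fun g c hc =>
    (Φ.ker _).2 (N.mem_C.2 ⟨c, hc⟩)
  have hcomm2 : ∀ t, p t = 0 → ∀ g, ∃ a, t * g = g * t * D.j a := fun t ht g => by
    obtain ⟨c, hc⟩ := hQ2 t ht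
    refine D.exists_comm_mem ?_
    rw [← hc, ← N.j_comm]
  have hsq2 : ∀ t, p t = 0 → t * t ∈ D.C := fun t ht => by
    obtain ⟨c, hc⟩ := hQ2 t ht
    rw [← QuotientGroup.eq_one_iff, QuotientGroup.mk_mul, ← hc, N.j_self]
  obtain ⟨sb, hsb⟩ := frobenius_surjective_two Φ.B
  have hsb0 : sb ≠ 0 := fun h => Φ.hB (by rw [← hsb, h, zero_pow two_ne_zero])
  -- squares of the middle layer
  have hsqX : ∀ h, (p h).1 = 0 → N.j (sb * (p h).2) = ((h * h : Q) : Q ⧸ D.C) := fun h hh => by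
    obtain ⟨c, hc, hc2⟩ := Φ.sq (h : Q ⧸ D.C)
    change c ^ 2 = Φ.A * (p h).1 ^ 2 + Φ.B * ((p h).2 ^ 2 + (p h).2 * (p h).1) at hc2
    rw [hh, ← hsb] at hc2
    have h1 : (c + sb * (p h).2) ^ 2 = 0 := by
      rw [CharTwo.add_sq, hc2]
      linear_combination (sb * (p h).2) ^ 2 * CharTwo.two_eq_zero (R := F)
    rw [← CharTwo.add_eq_zero.1 ((pow_eq_zero_iff two_ne_zero).1 h1), QuotientGroup.mk_mul, hc]
  let X : Subgroup Q :=
    { carrier := {g | (p g).1 = 0}
      one_mem' := show (p 1).1 = 0 by rw [hp1]; rfl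
      mul_mem' := fun {g h} hg hh => show (p (g * h)).1 = 0 by
        rw [hp, Prod.fst_add, show (p g).1 = 0 from hg, show (p h).1 = 0 from hh, add_zero]
      inv_mem' := fun {g} hg => show (p g⁻¹).1 = 0 by rw [hpinv]; exact hg }
  have hXcomN : ∀ g ∈ X, ∀ h ∈ X, (g : Q ⧸ D.C) * h = h * g := fun g hg h hh => by
    have h1 := hsqX (g * h) (mul_mem (s := X) hg hh)
    have e : N.j (sb * (p (g * h)).2) =
        ((g * g : Q) : Q ⧸ D.C) * ((h * h : Q) : Q ⧸ D.C) := by
      rw [← hsqX g hg, ← hsqX h hh, ← N.j_add, hp, Prod.snd_add, mul_add]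
    rw [e, QuotientGroup.mk_mul, QuotientGroup.mk_mul, QuotientGroup.mk_mul, QuotientGroup.mk_mul] at h1
    set a := (g : Q ⧸ D.C)
    set b := (h : Q ⧸ D.C)
    have h2 : a * (a * b) * b = a * (b * a) * b := by
      simp only [mul_assoc] at h1 ⊢
      exact h1
    exact mul_left_cancel (mul_right_cancel h2)
  have hroot : ∀ t, p t = 0 → ∃ k ∈ X, ∃ c, t = k * k * D.j c := fun t ht => by
    obtain ⟨d, hd⟩ := hQ2 t ht
    obtain ⟨k, hk⟩ := hpsurj (0, d / sb)
    refine ⟨k, show (p k).1 = 0 by rw [hk], ?_⟩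
    have h1 := hsqX k (by rw [hk])
    rw [hk, show sb * (d / sb) = d from mul_div_cancel₀ d hsb0, hd] at h1
    obtain ⟨c, hc⟩ := D.mem_C.1 (QuotientGroup.eq.1 h1.symm)
    exact ⟨c, by rw [hc, mul_inv_cancel_left]⟩
  have hXc : ∀ g ∈ X, ∀ h ∈ X, g * h = h * g := by
    refine D.comm_of_top X (fun g hg => show (p (D.ρ g)).1 = 0 by
        rw [hpρ, show (p g).1 = 0 from hg, mul_zero]) (fun g => (p g).2)
      (fun g _ h _ => by rw [hp, Prod.snd_add]) (fun g _ => by rw [hpρ]) (fun x => ?_)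
      (fun g hg hg0 h hh => ?_) fun g hg h hh => D.exists_comm_mem (hXcomN g hg h hh)
    · obtain ⟨g, hg⟩ := hpsurj (0, x)
      exact ⟨g, show (p g).1 = 0 by rw [hg], by rw [hg]⟩
    · obtain ⟨k, hk, c, rfl⟩ := hroot g (Prod.ext hg hg0)
      obtain ⟨a, ha⟩ := D.exists_comm_mem (hXcomN k hk h hh)
      rw [D.j_move, D.sq_commute ha, mul_assoc]
  -- the automorphism inverts the middle layer
  have hdiffinv : ∀ g, D.α (g⁻¹ * D.α g) = (g⁻¹ * D.α g)⁻¹ := fun g => by
    rw [map_mul, map_inv, D.invol, mul_inv_rev, inv_inv]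
  have hdiffp : ∀ g, p (g⁻¹ * D.α g) = (0, (p g).1) := fun g => by
    rw [hp, hpinv, hpα]
    ext
    · simp [CharTwo.add_self_eq_zero]
    · simp only [Prod.snd_add]
      rw [← add_assoc, CharTwo.add_self_eq_zero, zero_add]
  have hinvC : ∀ c, D.α (D.j c) = (D.j c)⁻¹ := fun c => by rw [D.α_j, D.j_inv]
  have hinv2 : ∀ t, p t = 0 → D.α t = t⁻¹ := fun t ht => by
    obtain ⟨k, hk, c, rfl⟩ := hroot t ht
    obtain ⟨g, hg⟩ := hpsurj ((p k).2, 0)
    obtain ⟨w, hw, hwinv⟩ : ∃ w, p w = (0, (p k).2) ∧ D.α w = w⁻¹ :=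
      ⟨g⁻¹ * D.α g, by rw [hdiffp, hg], hdiffinv g⟩
    have hwX : w ∈ X := show (p w).1 = 0 by rw [hw]
    have hu : p (w⁻¹ * k) = 0 := by
      rw [hp, hpinv, hw]
      exact Prod.ext (by simp [show (p k).1 = 0 from hk]) (by simp [CharTwo.add_self_eq_zero])
    obtain ⟨d, hd⟩ := D.mem_C.1 (hsq2 _ hu)
    have hkk : k * k = w * w * D.j d := by
      rw [hd]
      have h1 : w⁻¹ * k = k * w⁻¹ := hXc _ (inv_mem hwX) _ hk
      have h2 : w * k = k * w := hXc _ hwX _ hk
      calc k * k = w * w * (w⁻¹ * w⁻¹ * (k * k)) := by group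
        _ = w * w * (w⁻¹ * (w⁻¹ * k) * k) := by group
        _ = w * w * (w⁻¹ * (k * w⁻¹) * k) := by rw [h1]
        _ = _ := by group
    rw [hkk, map_mul, map_mul, map_mul, hwinv, D.α_j, D.α_j, mul_inv_rev, mul_inv_rev, mul_inv_rev,
      D.j_inv, D.j_inv]
    rw [← D.j_comm d, ← D.j_comm c (w⁻¹ * w⁻¹ * D.j d)]
  have hord2 : ∀ t, p t = 0 → t * t = 1 → t ∈ D.C := fun t ht htt => (D.mem t).2 (by
    rw [hinv2 t ht, inv_eq_of_mul_eq_one_right htt])
  -- squaring of the second layer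
  have hlift : ∀ a, ∃ t : Q, N.j a = (t : Q ⧸ D.C) := fun a =>
    (QuotientGroup.mk_surjective (N.j a)).imp fun _ h => h.symm
  choose lt hlt using hlift
  have hlt0 : ∀ a, p (lt a) = 0 := fun a => hQ2' _ a (hlt a)
  choose sq hsqv using fun a => D.mem_C.1 (hsq2 (lt a) (hlt0 a))
  have hsqu : ∀ (t : Q) (a : F), N.j a = (t : Q ⧸ D.C) → D.j (sq a) = t * t := fun t a ha => by
    obtain ⟨c, hc⟩ := D.mem_C.1 (QuotientGroup.eq.1 ((hlt a).symm.trans ha))
    rw [hsqv, show t = lt a * D.j c by rw [hc, mul_inv_cancel_left], ← mul_assoc, D.j_move,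
      mul_assoc (lt a * lt a), D.j_self, mul_one]
  have hsqadd : ∀ a b, sq (a + b) = sq a + sq b := fun a b => D.j_inj (by
    have hab : lt a * lt b = lt b * lt a :=
      hXc _ (show (p (lt a)).1 = 0 by rw [hlt0]; rfl) _ (show (p (lt b)).1 = 0 by rw [hlt0]; rfl)
    rw [hsqu (lt a * lt b) (a + b) (by rw [N.j_add, hlt, hlt, QuotientGroup.mk_mul]), D.j_add, hsqv,
      hsqv]
    calc lt a * lt b * (lt a * lt b) = lt a * (lt b * lt a) * lt b := by group
      _ = lt a * (lt a * lt b) * lt b := by rw [hab]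
      _ = _ := by group)
  have hsqρ : ∀ a, sq (ω * a) = ω * sq a := fun a => D.j_inj (by
    rw [hsqu (D.ρ (lt a)) (ω * a) (by rw [← hNρ, ← hlt, N.equiv]), ← map_mul, ← hsqv, D.equiv])
  have hsqlin := lin_eq D.gen sq hsqadd hsqρ
  set κ := sq 1 with hκ
  have hκ0 : κ ≠ 0 := fun h => by
    have h1 := hsqv 1
    rw [show sq 1 = 0 from h, D.j_zero] at h1
    have h2 := (QuotientGroup.eq_one_iff _).2 (hord2 _ (hlt0 1) h1.symm)
    rw [← hlt, ← N.j_zero] at h2
    exact one_ne_zero (N.j_inj h2)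
  -- conjugation by an element of the top layer
  obtain ⟨g, hg⟩ := hpsurj (1, 0)
  have hgg : g * g ∈ X := show (p (g * g)).1 = 0 by rw [hp, Prod.fst_add, CharTwo.add_self_eq_zero]
  have step : ∀ h ∈ X, ∃ e : Q, ∃ ε : F, N.j ε = (e : Q ⧸ D.C) ∧ g * h * g⁻¹ = h * e ∧
      g * e * g⁻¹ = e * D.j (sq ε) ∧ ε ^ 2 = Φ.B * (p h).2 := by
    intro h hh
    set e := h⁻¹ * (g * h * g⁻¹) with he
    have hpe : p e = 0 := by
      rw [hp, hp, hp, hpinv, hpinv]
      have : ∀ v : F × F, v + v = 0 := fun v => by ext <;> simp [CharTwo.add_self_eq_zero]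
      rw [show p h + (p g + p h + p g) = (p h + p h) + (p g + p g) by abel, this, this, add_zero]
    obtain ⟨ε, hε⟩ := hQ2 e hpe
    have hconj : g * h * g⁻¹ = h * e := by rw [he, mul_inv_cancel_left]
    have heX : e ∈ X := show (p e).1 = 0 by rw [hpe]; rfl
    obtain ⟨f, hf⟩ := hcomm2 e hpe g⁻¹
    have hge : g * e * g⁻¹ = e * D.j f := by
      rw [mul_assoc, hf]; group
    have hgg' : g * (g * h * g⁻¹) * g⁻¹ = h := by
      have := hXc _ hgg _ hh
      calc g * (g * h * g⁻¹) * g⁻¹ = g * g * h * (g * g)⁻¹ := by group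
        _ = h := by rw [this]; group
    have hee : f = sq ε := D.j_inj (by
      rw [hsqu e ε hε]
      have h1 : g * (h * e) * g⁻¹ = h := by rw [← hconj]; exact hgg'
      rw [show g * (h * e) * g⁻¹ = (g * h * g⁻¹) * (g * e * g⁻¹) by group, hconj, hge] at h1
      have h2 : e * e * D.j f = 1 := mul_left_cancel (a := h) (by
        rw [mul_one]; calc h * (e * e * D.j f) = h * e * (e * D.j f) := by group
          _ = h := h1)
      obtain ⟨c, hc⟩ := D.mem_C.1 (hsq2 e hpe)
      rw [← hc] at h2 ⊢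
      rw [← D.j_inv f]
      exact (eq_inv_of_mul_eq_one_left h2).symm)
    refine ⟨e, ε, hε, hconj, by rw [hge, hee], ?_⟩
    obtain ⟨ch, hch, hch2⟩ := Φ.sq (h : Q ⧸ D.C)
    obtain ⟨cg, hcg, hcg2⟩ := Φ.sq (g : Q ⧸ D.C)
    obtain ⟨cx, hcx, hcx2⟩ := Φ.sq ((h * g : Q) : Q ⧸ D.C)
    change ch ^ 2 = Φ.A * (p h).1 ^ 2 + Φ.B * ((p h).2 ^ 2 + (p h).2 * (p h).1) at hch2
    change cg ^ 2 = Φ.A * (p g).1 ^ 2 + Φ.B * ((p g).2 ^ 2 + (p g).2 * (p g).1) at hcg2
    change cx ^ 2 = Φ.A * (p (h * g)).1 ^ 2 +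
      Φ.B * ((p (h * g)).2 ^ 2 + (p (h * g)).2 * (p (h * g)).1) at hcx2
    rw [hp, Prod.fst_add, Prod.snd_add, show (p h).1 = 0 from hh, hg] at hcx2
    rw [show (p h).1 = 0 from hh] at hch2
    rw [hg] at hcg2
    have hx : cx = ch + ε + cg := N.j_inj (by
      rw [← hcx, N.j_add, N.j_add, ← hch, ← hcg, hε]
      simp only [← QuotientGroup.mk_mul]
      congr 1
      calc h * g * (h * g) = h * (g * h * g⁻¹) * (g * g) := by group
        _ = h * (h * e) * (g * g) := by rw [hconj]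
        _ = _ := by group)
    rw [hx, CharTwo.add_sq, CharTwo.add_sq, hch2, hcg2] at hcx2
    linear_combination hcx2
  -- the contradiction
  obtain ⟨x, hx⟩ : ∃ x : F, x ≠ 0 ∧ x ≠ 1 := by
    classical
    haveI := Fintype.ofFinite F
    by_contra hall
    push Not at hall
    have h1 := Finset.card_le_card (fun x _ => by
      simp only [Finset.mem_insert, Finset.mem_singleton]
      exact or_iff_not_imp_left.2 (hall x) : (Finset.univ : Finset F) ⊆ {0, 1})
    have h2 := Finset.card_le_two (a := (0 : F)) (b := 1)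
    rw [Finset.card_univ, ← Nat.card_eq_fintype_card] at h1
    omega
  obtain ⟨h, hh⟩ := hpsurj (0, x)
  have hhX : h ∈ X := show (p h).1 = 0 by rw [hh]
  obtain ⟨e, ε, hε, hconj, hge, hε2⟩ := step h hhX
  obtain ⟨k, hk, c, hkc⟩ := hroot e (hQ2' e ε hε)
  obtain ⟨ek, εk, hεk, hconjk, hgek, hεk2⟩ := step k hk
  have hekX : ek ∈ X := show (p ek).1 = 0 by rw [hQ2' ek εk hεk]; rfl
  have hε' : ε = sb * (p k).2 := N.j_inj (by
    rw [hsqX k hk, hε, hkc, QuotientGroup.mk_mul, (QuotientGroup.eq_one_iff (D.j c)).2 (D.j_mem c),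
      mul_one])
  have heq : sq ε = sq εk := D.j_inj (by
    rw [hsqu ek εk hεk]
    have h1 := hge
    rw [hkc, show g * (k * k * D.j c) * g⁻¹ = (g * k * g⁻¹) * (g * k * g⁻¹) * (g * D.j c * g⁻¹) by group,
      hconjk, D.j_comm c g, mul_inv_cancel_right] at h1
    have h2 : k * ek * (k * ek) = k * k * (ek * ek) := by
      have := hXc _ hekX _ hk
      calc k * ek * (k * ek) = k * (ek * k) * ek := by group
        _ = k * (k * ek) * ek := by rw [this]
        _ = _ := by group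
    rw [h2, D.j_move c] at h1
    refine mul_left_cancel (a := k * k) ?_
    refine mul_right_cancel (b := D.j c) ?_
    exact h1.symm)
  rw [hsqlin ε, hsqlin εk] at heq
  have hεe : ε = εk := mul_right_cancel₀ hκ0 heq
  rw [← hεe, hε2, hh] at hεk2
  have hxk : x = (p k).2 := mul_left_cancel₀ Φ.hB hεk2
  rw [hε', mul_pow, hsb, hh, ← hxk] at hε2
  have hxx : x ^ 2 = x := mul_left_cancel₀ Φ.hB hε2
  exact hx.2 (mul_left_cancel₀ hx.1 (by rw [← pow_two, hxx, mul_one]))

end Datum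

/-- A group with the data is abelian or has the quadratic form. -/
theorem main {F : Type} [Field F] [CharP F 2] [Finite F] {ω : F} (h4 : 4 ≤ Nat.card F)
    {Q : Type u} [Group Q] [Finite Q] (D : Datum Q F ω) :
    (∀ g h : Q, g * h = h * g) ∨ Nonempty D.Form := by
  classical
  suffices H : ∀ (n : ℕ) (Q : Type u) [Group Q] [Finite Q] (D : Datum Q F ω), Nat.card Q ≤ n →
      (∀ g h : Q, g * h = h * g) ∨ Nonempty D.Form from H _ Q D le_rfl
  intro n
  induction n with
  | zero => intro Q _ _ D hn; exact absurd hn (by have := Nat.card_pos (α := Q); omega)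
  | succ n ih =>
    intro Q _ _ D hn
    by_cases hC : D.C = ⊤
    · exact Or.inl (D.C_eq_top hC)
    obtain ⟨N, hNα, hNρ, hNj⟩ := D.exists_quotient hC
    have hlt : Nat.card (Q ⧸ D.C) ≤ n := by
      have h1 := D.C.index_mul_card
      rw [Subgroup.index_eq_card] at h1
      have h2 : 1 < Nat.card D.C := by
        refine Finite.one_lt_card_iff_nontrivial.2 ⟨⟨⟨D.j 1, D.j_mem 1⟩, 1, fun h => ?_⟩⟩
        exact one_ne_zero (D.j_inj ((congrArg Subtype.val h).trans D.j_zero.symm))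
      have h3 : 0 < Nat.card (Q ⧸ D.C) := Nat.card_pos
      nlinarith
    rcases ih (Q ⧸ D.C) N hlt with hNc | ⟨Φ⟩
    · by_cases hexp : ∀ x : Q ⧸ D.C, x * x = 1
      · by_cases hNC : N.C = ⊤
        · left
          have hall : ∀ x : Q ⧸ D.C, ∃ a, N.j a = x := fun x =>
            N.mem_C.1 (hNC ▸ Subgroup.mem_top x)
          choose θ hθ using hall
          intro g h
          refine D.comm_of_top ⊤ (fun _ _ => Subgroup.mem_top _) (fun g => θ (g : Q ⧸ D.C))
            (fun g _ h _ => N.j_inj (by rw [hθ, N.j_add, hθ, hθ, QuotientGroup.mk_mul]))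
            (fun g _ => N.j_inj (by rw [hθ, ← N.equiv, hθ, hNρ]))
            (fun a => ?_) (fun g _ hg h _ => ?_) (fun g _ h _ => D.exists_comm_mem (hNc _ _)) g
            (Subgroup.mem_top g) h (Subgroup.mem_top h)
          · obtain ⟨g, hg⟩ := QuotientGroup.mk_surjective (s := D.C) (N.j a)
            exact ⟨g, Subgroup.mem_top g, N.j_inj (by rw [hθ, hg])⟩
          · have h1 := hθ (g : Q ⧸ D.C)
            rw [hg, N.j_zero, eq_comm, QuotientGroup.eq_one_iff] at h1
            obtain ⟨a, rfl⟩ := D.mem_C.1 h1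
            exact (D.j_comm a h).symm
        · exact D.form_of_elementary h4 N hNα hNρ hexp hNC
      · push Not at hexp
        refine Or.inl (D.comm_of_abelian h4 N hNρ hNc (fun z hz => ?_) hexp)
        by_contra hzC
        -- all differences of involutions fill the fixed points
        let E : Subgroup (Q ⧸ D.C) :=
          { carrier := {x | x * x = 1}
            one_mem' := mul_one 1
            mul_mem' := fun {x y} hx hy => by
              show x * y * (x * y) = 1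
              calc x * y * (x * y) = x * (y * x) * y := by group
                _ = x * (x * y) * y := by rw [hNc y x]
                _ = x * x * (y * y) := by group
                _ = 1 := by rw [show x * x = 1 from hx, show y * y = 1 from hy, mul_one]
            inv_mem' := fun {x} hx => by
              show x⁻¹ * x⁻¹ = 1
              rw [← mul_inv_rev, show x * x = 1 from hx, inv_one] }
        have hEd : ∀ x ∈ E, ∃ a, x⁻¹ * N.α x = N.j a := fun x hx => by
          obtain ⟨a, ha⟩ := (N.mem (x⁻¹ * N.α x)).2 (by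
            have hx' : x⁻¹ = x := inv_eq_of_mul_eq_one_right hx
            rw [hx', map_mul, N.invol, hNc])
          exact ⟨a, ha.symm⟩
        obtain ⟨a₀, ha₀⟩ := hEd z hz
        have ha₀0 : a₀ ≠ 0 := fun h => hzC ((N.mem z).2 (by
          rw [h, N.j_zero, inv_mul_eq_one] at ha₀; exact ha₀.symm))
        have hfill : ∀ a, ∃ x ∈ E, x⁻¹ * N.α x = N.j a := by
          refine fun a => N.all_fixed (P := fun a => ∃ x ∈ E, x⁻¹ * N.α x = N.j a)
            ⟨1, one_mem _, by simp [N.j_zero]⟩ ha₀0 ⟨z, hz, ha₀⟩ (fun y ⟨x, hx, hxy⟩ => ⟨N.ρ x, ?_, ?_⟩) a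
          · show N.ρ x * N.ρ x = 1
            rw [← map_mul, show x * x = 1 from hx, map_one]
          · rw [N.comm, ← map_inv, ← map_mul, hxy, N.equiv]
        haveI : E.Normal := ⟨fun x hx y => by rw [hNc y x, mul_inv_cancel_right]; exact hx⟩
        have hmap : E.map (N.α : (Q ⧸ D.C) →* (Q ⧸ D.C)) = E := by
          ext x
          constructor
          · rintro ⟨y, hy, rfl⟩
            show N.α y * N.α y = 1
            rw [← map_mul, show y * y = 1 from hy, map_one]
          · intro hx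
            refine ⟨N.α x, ?_, N.invol x⟩
            show N.α x * N.α x = 1
            rw [← map_mul, show x * x = 1 from hx, map_one]
        obtain ⟨x₀, hx₀⟩ := hexp
        haveI : Nontrivial ((Q ⧸ D.C) ⧸ E) := QuotientGroup.nontrivial_iff.2 fun h => hx₀
          (show x₀ ∈ E from h ▸ Subgroup.mem_top x₀)
        let β : MulAut ((Q ⧸ D.C) ⧸ E) := QuotientGroup.congr E E N.α hmap
        have hβ : ∀ x : Q ⧸ D.C, β x = (N.α x : (Q ⧸ D.C) ⧸ E) := fun x => rfl
        obtain ⟨y, -, hy1, hyf⟩ := exists_fixed_invol (N.pgroup.to_quotient E) β fun x => by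
          induction x using QuotientGroup.induction_on with
          | H g => rw [hβ, hβ, N.invol]
        induction y using QuotientGroup.induction_on with
        | H y =>
          rw [hβ, eq_comm, QuotientGroup.eq] at hyf
          set w := y⁻¹ * N.α y
          have hww : w⁻¹ = w := inv_eq_of_mul_eq_one_right hyf
          have hwf : N.α w = w := by
            rw [map_mul, map_inv, N.invol, ← hww, mul_inv_rev, inv_inv]
          obtain ⟨a, ha⟩ := (N.mem w).2 hwf
          obtain ⟨x, hx, hxa⟩ := hfill a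
          have he : N.α (y * x⁻¹) = y * x⁻¹ := by
            have e1 : N.α x = x * N.j a := by rw [← hxa, mul_inv_cancel_left]
            have e2 : N.α y = y * N.j a := by rw [ha, mul_inv_cancel_left]
            rw [map_mul, map_inv, e1, e2, mul_inv_rev, mul_assoc, mul_inv_cancel_left]
          refine hy1 ((QuotientGroup.eq_one_iff y).2 ?_)
          have h1 : y * x⁻¹ ∈ E := by
            obtain ⟨b, hb⟩ := (N.mem _).2 he
            show _ * _ = 1
            rw [← hb, N.j_self]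
          simpa using mul_mem h1 hx
    · exact (Φ.elim (D.comm_of_form h4 N hNα hNρ)).elim

end CfsgLib.InvFixedSinger
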