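import Cfsg.Agent.Lib.InvFixedSinger.Main
import Cfsg.Agent.Lib.FpfTwo.Main
import Cfsg.Agent.Lib.UnitarySylowAut
import Cfsg.Agent.S0280

/-!
Groups with the same squaring map are isomorphic; the models of the two forms.
-/

set_option autoImplicit false
set_option linter.unusedSectionVars false

namespace CfsgLib.InvFixedSinger

universe u v

/-- A central extension of an elementary group by an elementary group, given by coordinates. -/
structure SqExt (G : Type u) [Group G] (V Z : Type) [AddCommGroup V] [AddCommGroup Z] (q : V → Z) where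
  π : G → V
  j : Z → G
  π_mul : ∀ g h, π (g * h) = π g + π h
  surj : ∀ v, ∃ g, π g = v
  j_inj : Function.Injective j
  j_add : ∀ a b, j (a + b) = j a * j b
  j_comm : ∀ a g, g * j a = j a * g
  ker : ∀ g, π g = 0 ↔ ∃ a, j a = g
  sq : ∀ g, g * g = j (q (π g))

/-- The squaring map determines the extension. -/
theorem iso_of_squares {G : Type u} [Group G] [Finite G] {H : Type v} [Group H] [Finite H]
    {V Z : Type} [AddCommGroup V] [AddCommGroup Z] {q : V → Z} (hZ : ∀ z : Z, z + z = 0)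
    (A : SqExt G V Z q) (B : SqExt H V Z q) : Nonempty (G ≃* H) := by
  classical
  have hA0 : A.π 1 = 0 := left_eq_add.mp
    (show A.π 1 = A.π 1 + A.π 1 by rw [← A.π_mul, one_mul])
  have hB0 : B.π 1 = 0 := left_eq_add.mp
    (show B.π 1 = B.π 1 + B.π 1 by rw [← B.π_mul, one_mul])
  have hjA0 : A.j 0 = 1 := left_eq_mul.mp
    (show A.j 0 = A.j 0 * A.j 0 by rw [← A.j_add, add_zero])
  have hjB0 : B.j 0 = 1 := left_eq_mul.mp
    (show B.j 0 = B.j 0 * B.j 0 by rw [← B.j_add, add_zero])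
  have hAi : ∀ a, (A.j a)⁻¹ = A.j a := fun a =>
    inv_eq_of_mul_eq_one_right (by rw [← A.j_add, hZ, hjA0])
  have hBi : ∀ a, (B.j a)⁻¹ = B.j a := fun a =>
    inv_eq_of_mul_eq_one_right (by rw [← B.j_add, hZ, hjB0])
  have hAinv : ∀ g, A.π g⁻¹ = -A.π g := fun g =>
    eq_neg_of_add_eq_zero_left (by rw [← A.π_mul, inv_mul_cancel, hA0])
  have hBinv : ∀ g, B.π g⁻¹ = -B.π g := fun g =>
    eq_neg_of_add_eq_zero_left (by rw [← B.π_mul, inv_mul_cancel, hB0])
  let Δ : Z → G × H := fun z => (A.j z, B.j z)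
  have hΔc : ∀ z (x : G × H), x * Δ z = Δ z * x := fun z x =>
    Prod.ext (A.j_comm z x.1) (B.j_comm z x.2)
  let R : Subgroup (G × H) :=
    { carrier := {x | A.π x.1 = B.π x.2}
      one_mem' := show A.π 1 = B.π 1 by rw [hA0, hB0]
      mul_mem' := fun {x y} hx hy => show A.π (x.1 * y.1) = B.π (x.2 * y.2) by
        rw [A.π_mul, B.π_mul, show A.π x.1 = B.π x.2 from hx, show A.π y.1 = B.π y.2 from hy]
      inv_mem' := fun {x} hx => show A.π x.1⁻¹ = B.π x.2⁻¹ by
        rw [hAinv, hBinv, show A.π x.1 = B.π x.2 from hx] }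
  have hsq : ∀ x ∈ R, ∃ z, x * x = Δ z := fun x hx => ⟨q (A.π x.1),
    Prod.ext (A.sq x.1) (by
      show x.2 * x.2 = B.j (q (A.π x.1))
      rw [show A.π x.1 = B.π x.2 from hx]; exact B.sq x.2)⟩
  let S : Set (Subgroup (G × H)) := {L | L ≤ R ∧ (∀ z, Δ z ∈ L) ∧ ∀ z, (A.j z, (1 : H)) ∈ L → z = 0}
  let L₀ : Subgroup (G × H) :=
    { carrier := {x | ∃ z, Δ z = x}
      one_mem' := ⟨0, Prod.ext hjA0 hjB0⟩
      mul_mem' := by
        rintro _ _ ⟨a, rfl⟩ ⟨b, rfl⟩
        exact ⟨a + b, Prod.ext (A.j_add a b) (B.j_add a b)⟩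
      inv_mem' := by
        rintro _ ⟨a, rfl⟩
        exact ⟨a, Prod.ext (hAi a).symm (hBi a).symm⟩ }
  have hne : S.Nonempty := by
    refine ⟨L₀, ?_, fun z => ⟨z, rfl⟩, ?_⟩
    · rintro _ ⟨z, rfl⟩
      show A.π (A.j z) = B.π (B.j z)
      rw [(A.ker _).2 ⟨z, rfl⟩, (B.ker _).2 ⟨z, rfl⟩]
    · rintro z ⟨w, hw⟩
      have h1 : A.j w = A.j z := congrArg Prod.fst hw
      have h2 : B.j w = 1 := congrArg Prod.snd hw
      rw [← A.j_inj h1]
      exact B.j_inj (h2.trans hjB0.symm)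
  obtain ⟨L, hLmem, hLmax⟩ := (Set.toFinite S).exists_maximalFor id S hne
  obtain ⟨hLR, hLΔ, hLK⟩ := hLmem
  -- invariance under conjugation
  have hswap : ∀ r ∈ R, ∀ s ∈ L, r * s * r⁻¹ ∈ L := by
    intro r hr s hs
    obtain ⟨a, ha⟩ := hsq r hr
    obtain ⟨b, hb⟩ := hsq s (hLR hs)
    obtain ⟨c, hc⟩ := hsq (r * s) (mul_mem hr (hLR hs))
    have key : r * s * r⁻¹ * s⁻¹ ∈ L := by
      have e : r * s * r⁻¹ * s⁻¹ = (r * s) * (r * s) * (s⁻¹ * (r * r)⁻¹ * s⁻¹) := by group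
      rw [e, hc, ha]
      refine mul_mem (hLΔ c) ?_
      exact mul_mem (mul_mem (inv_mem hs) (inv_mem (hLΔ a))) (inv_mem hs)
    simpa using mul_mem key hs
  -- surjectivity of the first projection
  have hcov : ∀ g, ∃ h, (g, h) ∈ L := by
    intro g
    by_contra hno
    push Not at hno
    obtain ⟨h₀, hh₀⟩ := B.surj (A.π g)
    set r : G × H := (g, h₀) with hr
    have hrR : r ∈ R := show A.π g = B.π h₀ from hh₀.symm
    let L' : Subgroup (G × H) :=
      { carrier := {x | x ∈ L ∨ r⁻¹ * x ∈ L}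
        one_mem' := Or.inl (one_mem _)
        mul_mem' := by
          obtain ⟨a, ha⟩ := hsq r hrR
          rintro x y (hx | hx) (hy | hy)
          · exact Or.inl (mul_mem hx hy)
          · refine Or.inr ?_
            have := mul_mem (hswap r⁻¹ (inv_mem hrR) x hx) hy
            rw [show r⁻¹ * x * r⁻¹⁻¹ * (r⁻¹ * y) = r⁻¹ * (x * y) by group] at this
            exact this
          · refine Or.inr ?_
            rw [show r⁻¹ * (x * y) = r⁻¹ * x * y by group]
            exact mul_mem hx hy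
          · refine Or.inl ?_
            have := mul_mem (hswap r hrR _ hx) (mul_mem (hLΔ a) hy)
            rw [← ha, show r * (r⁻¹ * x) * r⁻¹ * (r * r * (r⁻¹ * y)) = x * y by group] at this
            exact this
        inv_mem' := by
          obtain ⟨a, ha⟩ := hsq r hrR
          rintro x (hx | hx)
          · exact Or.inl (inv_mem hx)
          · refine Or.inr ?_
            have := mul_mem (inv_mem (hLΔ a)) (hswap r hrR _ (inv_mem hx))
            rw [← ha, show (r * r)⁻¹ * (r * (r⁻¹ * x)⁻¹ * r⁻¹) = r⁻¹ * x⁻¹ by group] at this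
            exact this }
    have hle : L ≤ L' := fun x hx => Or.inl hx
    have hrL' : r ∈ L' := Or.inr (by rw [inv_mul_cancel]; exact one_mem _)
    have hnot : L' ∉ S := fun hmem => hno h₀ (hLmax hmem hle hrL')
    have hex : ∃ z, (A.j z, (1 : H)) ∈ L' ∧ z ≠ 0 := by
      by_contra hall
      push Not at hall
      refine hnot ⟨?_, fun z => hle (hLΔ z), hall⟩
      rintro x (hx | hx)
      · exact hLR hx
      · simpa using mul_mem hrR (hLR hx)
    obtain ⟨z, hz, hz0⟩ := hex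
    rcases hz with hz | hz
    · exact hz0 (hLK z hz)
    · have h1 := inv_mem (mul_mem hz (hLΔ z))
      have h2 : r⁻¹ * (A.j z, (1 : H)) * Δ z = (g⁻¹, h₀⁻¹ * B.j z) := by
        refine Prod.ext ?_ ?_
        · show g⁻¹ * A.j z * A.j z = g⁻¹
          rw [mul_assoc, ← A.j_add, hZ, hjA0, mul_one]
        · show h₀⁻¹ * 1 * B.j z = h₀⁻¹ * B.j z
          rw [mul_one]
      rw [h2] at h1
      exact hno ((h₀⁻¹ * B.j z)⁻¹) (by simpa [Prod.inv_mk] using h1)
  choose f hf using hcov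
  have huniq : ∀ h, ((1 : G), h) ∈ L → h = 1 := by
    intro h hh
    have hπ : A.π 1 = B.π h := hLR hh
    obtain ⟨z, hz⟩ := (B.ker h).1 (by rw [← hπ, hA0])
    have h1 := mul_mem hh (hLΔ z)
    have h2 : ((1 : G), h) * Δ z = (A.j z, (1 : H)) := by
      refine Prod.ext (one_mul _) ?_
      show h * B.j z = 1
      rw [← hz, ← B.j_add, hZ, hjB0]
    rw [h2] at h1
    rw [← hz, hLK z h1, hjB0]
  have hfu : ∀ g h, (g, h) ∈ L → f g = h := by
    intro g h hh
    have h1 := mul_mem (inv_mem (hf g)) hh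
    have h2 : (g, f g)⁻¹ * (g, h) = ((1 : G), (f g)⁻¹ * h) := Prod.ext (inv_mul_cancel g) rfl
    rw [h2] at h1
    exact inv_mul_eq_one.1 (huniq _ h1)
  have hfmul : ∀ a b, f (a * b) = f a * f b := fun a b => hfu _ _ (mul_mem (hf a) (hf b))
  refine ⟨MulEquiv.ofBijective (MonoidHom.mk' f hfmul) ⟨?_, fun h => ?_⟩⟩
  · rw [← MonoidHom.ker_eq_bot_iff, Subgroup.eq_bot_iff_forall]
    intro g hg
    have h1 : (g, (1 : H)) ∈ L := (show f g = 1 from hg) ▸ hf g
    have hπ : A.π g = B.π 1 := hLR h1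
    obtain ⟨z, hz⟩ := (A.ker g).1 (by rw [hπ, hB0])
    rw [← hz] at h1 ⊢
    rw [hLK z h1, hjA0]
  · obtain ⟨g, hg⟩ := A.surj (B.π h)
    have hπ : A.π g = B.π (f g) := hLR (hf g)
    obtain ⟨z, hz⟩ := (B.ker ((f g)⁻¹ * h)).1 (by rw [B.π_mul, hBinv, ← hπ, hg, neg_add_cancel])
    refine ⟨g * A.j z, ?_⟩
    show f (g * A.j z) = h
    rw [hfmul, hfu (A.j z) (B.j z) (hLΔ z), hz, mul_inv_cancel_left]

variable {F : Type} [Field F] [CharP F 2] [Finite F] {ω : F}

/-- The form `x² + x y + a y²` on `F²`. -/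
def qform (a : F) : F × F → F := fun v => v.2 ^ 2 + v.2 * v.1 + a * v.1 ^ 2

/-- A group with the form, normalised. -/
theorem Datum.Form.normalise {Q : Type u} [Group Q] [Finite Q] {D : Datum Q F ω} (Φ : D.Form) :
    ∃ a : F, Nonempty (SqExt Q (F × F) F (qform a)) := by
  classical
  refine ⟨Φ.A / Φ.B, ?_⟩
  have hr : ∀ u : F, ∃ r : F, r ^ 2 = Φ.B * u := fun u => frobenius_surjective_two _
  choose r hr using hr
  have hinj : ∀ {x y : F}, x ^ 2 = y ^ 2 → x = y := fun {x y} h => CharTwo.add_eq_zero.1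
    ((pow_eq_zero_iff two_ne_zero).1 (by rw [CharTwo.add_sq, h, CharTwo.add_self_eq_zero]))
  refine ⟨⟨Φ.π, fun u => D.j (r u), Φ.π_mul, Φ.surj, fun u v h => ?_, fun u v => ?_,
    fun u g => D.j_comm _ g, fun g => ?_, fun g => ?_⟩⟩
  · exact mul_left_cancel₀ Φ.hB (by rw [← hr u, ← hr v, D.j_inj h])
  · rw [← D.j_add]
    exact congrArg D.j (hinj (by rw [CharTwo.add_sq, hr, hr, hr, mul_add]))
  · rw [Φ.ker]
    constructor
    · intro hg
      obtain ⟨c, rfl⟩ := D.mem_C.1 hg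
      exact ⟨c ^ 2 / Φ.B, congrArg D.j (hinj (by rw [hr, mul_div_cancel₀ _ Φ.hB]))⟩
    · rintro ⟨u, rfl⟩
      exact D.j_mem _
  · obtain ⟨c, hc, hc2⟩ := Φ.sq g
    rw [hc]
    refine congrArg D.j (hinj ?_)
    rw [hr, hc2, qform, mul_add Φ.B ((Φ.π g).2 ^ 2 + _), ← mul_assoc Φ.B (Φ.A / Φ.B),
      mul_div_cancel₀ _ Φ.hB]
    ring

/-- The split form is that of the unitriangular group. -/
theorem split_model (F : Type) [Field F] [Fintype F] [CharP F 2] (a t : F) (ht : t ^ 2 + t = a) :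
    Nonempty (SqExt (CfsgLib.PSLn.upper F 3) (F × F) F (qform a)) := by
  classical
  let cen : F → CfsgLib.PSLn.upper F 3 := fun c =>
    ⟨CfsgLib.PSLn.xx 0 2 (by decide) c, CfsgLib.PSLn.xx_mem_upper (by decide) c⟩
  have hc01 : ∀ c, (cen c).1.1 0 1 = 0 := fun c => by
    show (CfsgLib.PSLn.xx (0 : Fin 3) 2 (by decide) c).1 0 1 = 0
    rw [CfsgLib.PSLn.coe_xx]; simp [Matrix.single]
  have hc12 : ∀ c, (cen c).1.1 1 2 = 0 := fun c => by
    show (CfsgLib.PSLn.xx (0 : Fin 3) 2 (by decide) c).1 1 2 = 0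
    rw [CfsgLib.PSLn.coe_xx]; simp [Matrix.single]
  have hc02 : ∀ c, (cen c).1.1 0 2 = c := fun c => by
    show (CfsgLib.PSLn.xx (0 : Fin 3) 2 (by decide) c).1 0 2 = c
    rw [CfsgLib.PSLn.coe_xx]; simp [Matrix.single]
  have h2 : (2 : F) = 0 := CharTwo.two_eq_zero
  -- `(a', b')` are the root coordinates
  let π : CfsgLib.PSLn.upper F 3 → F × F := fun A =>
    (A.1.1 0 1 + A.1.1 1 2, A.1.1 0 1 + t * (A.1.1 0 1 + A.1.1 1 2))
  refine ⟨⟨π, cen, fun A B => ?_, fun v => ?_, fun c d h => by rw [← hc02 c, h, hc02], fun c d => ?_,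
    fun c A => ?_, fun A => ⟨fun h => ⟨A.1.1 0 2, ?_⟩, ?_⟩, fun A => ?_⟩⟩
  · obtain ⟨e1, e2, -⟩ := CfsgLib.FpfTwo.upper_mul_entries A B
    simp only [π, e1, e2, Prod.mk_add_mk]
    exact Prod.ext (by ring) (by ring)
  · let x1 : CfsgLib.PSLn.upper F 3 :=
      ⟨CfsgLib.PSLn.xx 0 1 (by decide) (v.2 + t * v.1), CfsgLib.PSLn.xx_mem_upper (by decide) _⟩
    let x2 : CfsgLib.PSLn.upper F 3 :=
      ⟨CfsgLib.PSLn.xx 1 2 (by decide) (v.2 + (t + 1) * v.1), CfsgLib.PSLn.xx_mem_upper (by decide) _⟩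
    refine ⟨x1 * x2, ?_⟩
    obtain ⟨e1, e2, -⟩ := CfsgLib.FpfTwo.upper_mul_entries x1 x2
    have f1 : x1.1.1 0 1 = v.2 + t * v.1 ∧ x1.1.1 1 2 = 0 := by
      constructor <;> simp [x1, CfsgLib.PSLn.coe_xx, Matrix.single]
    have f2 : x2.1.1 0 1 = 0 ∧ x2.1.1 1 2 = v.2 + (t + 1) * v.1 := by
      constructor <;> simp [x2, CfsgLib.PSLn.coe_xx, Matrix.single]
    simp only [π, e1, e2, f1.1, f1.2, f2.1, f2.2]
    refine Prod.ext ?_ ?_
    · linear_combination (v.2 + t * v.1) * h2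
    · linear_combination (t * v.2 + t * t * v.1 + t * v.1) * h2
  · obtain ⟨e1, e2, e3⟩ := CfsgLib.FpfTwo.upper_mul_entries (cen c) (cen d)
    refine CfsgLib.FpfTwo.upper_ext _ _ ?_ ?_ ?_
    · rw [hc01, e1, hc01, hc01, add_zero]
    · rw [hc12, e2, hc12, hc12, add_zero]
    · rw [hc02, e3, hc02, hc02, hc01, zero_mul, add_zero]
  · obtain ⟨e1, e2, e3⟩ := CfsgLib.FpfTwo.upper_mul_entries A (cen c)
    obtain ⟨f1, f2, f3⟩ := CfsgLib.FpfTwo.upper_mul_entries (cen c) A
    refine CfsgLib.FpfTwo.upper_ext _ _ ?_ ?_ ?_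
    · rw [e1, f1, hc01, add_zero, zero_add]
    · rw [e2, f2, hc12, add_zero, zero_add]
    · rw [e3, f3, hc01, hc12, mul_zero, zero_mul, add_zero, add_zero, add_comm]
  · have h01 := congrArg Prod.fst h
    have h12 := congrArg Prod.snd h
    simp only [π, Prod.fst_zero, Prod.snd_zero] at h01 h12
    rw [h01, mul_zero, add_zero] at h12
    rw [h12, zero_add] at h01
    exact CfsgLib.FpfTwo.upper_ext _ _ (by rw [hc01, h12]) (by rw [hc12, h01]) (hc02 _)
  · rintro ⟨c, rfl⟩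
    simp [π, hc01, hc12]
  · obtain ⟨e1, e2, e3⟩ := CfsgLib.FpfTwo.upper_mul_entries A A
    refine CfsgLib.FpfTwo.upper_ext _ _ ?_ ?_ ?_
    · rw [e1, hc01, CharTwo.add_self_eq_zero]
    · rw [e2, hc12, CharTwo.add_self_eq_zero]
    · rw [e3, hc02]
      simp only [π, qform, ← ht]
      linear_combination (A.1.1 0 2 - (A.1.1 0 1) ^ 2 - t * (t + 1) * (A.1.1 0 1 + A.1.1 1 2) ^ 2
        - t * A.1.1 0 1 * (A.1.1 0 1 + A.1.1 1 2)) * h2

theorem exists_quadratic (F : Type) [Field F] [Fintype F] [CharP F 2] (a : F)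
    (ha : ∀ t : F, t ^ 2 + t ≠ a) :
    ∃ (K : Type) (_ : Field K) (_ : Fintype K), CharP K 2 ∧ Fintype.card K = Fintype.card F ^ 2 ∧
      ∃ (ι : F →+* K) (θ : K), θ ^ 2 + θ = ι a ∧ ∀ w : K, ∃ r s, w = ι r + θ * ι s := by
  classical
  let f : Polynomial F := Polynomial.X ^ 2 + Polynomial.X + Polynomial.C a
  have hdeg : f.natDegree = 2 := by simp only [f]; compute_degree!
  have hmon : f.Monic := by simp only [f]; monicity!
  have hirr : Irreducible f := by
    rw [hmon.irreducible_iff_roots_eq_zero_of_degree_le_three (by omega) (by omega),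
      Multiset.eq_zero_iff_forall_notMem]
    intro t ht
    rw [Polynomial.mem_roots hmon.ne_zero] at ht
    refine ha t ?_
    simp only [f, Polynomial.IsRoot.def, Polynomial.eval_add, Polynomial.eval_pow, Polynomial.eval_X,
      Polynomial.eval_C] at ht
    exact CharTwo.add_eq_zero.1 ht
  haveI := Fact.mk hirr
  let pb := AdjoinRoot.powerBasis hmon.ne_zero
  have hdim : pb.dim = 2 := hdeg
  haveI : Module.Finite F (AdjoinRoot f) := pb.finite
  haveI : Finite (AdjoinRoot f) := Module.finite_of_finite F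
  haveI := Fintype.ofFinite (AdjoinRoot f)
  haveI : CharP (AdjoinRoot f) 2 := charP_of_injective_algebraMap (algebraMap F (AdjoinRoot f)).injective 2
  refine ⟨AdjoinRoot f, inferInstance, inferInstance, inferInstance, ?_, AdjoinRoot.of f,
    AdjoinRoot.root f, ?_, fun w => ?_⟩
  · rw [Module.card_eq_pow_finrank (K := F), pb.finrank, hdim]
  · have h := AdjoinRoot.eval₂_root f
    simp only [f, Polynomial.eval₂_add, Polynomial.eval₂_pow, Polynomial.eval₂_X,
      Polynomial.eval₂_C] at h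
    exact CharTwo.add_eq_zero.1 h
  · obtain ⟨g, hg, hw⟩ := pb.exists_eq_aeval w
    rw [hdim] at hg
    refine ⟨g.coeff 0, g.coeff 1, ?_⟩
    rw [hw, Polynomial.aeval_eq_sum_range' hg, Finset.sum_range_succ, Finset.sum_range_one,
      pow_zero, pow_one, Algebra.smul_def, Algebra.smul_def, mul_one]
    show _ = AdjoinRoot.of f (g.coeff 0) + AdjoinRoot.root f * AdjoinRoot.of f (g.coeff 1)
    rw [mul_comm (AdjoinRoot.root f)]
    rfl

open CfsgLib.PSUBorel in
/-- The non-split form is that of the unitary group. -/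
theorem unitary_model (F : Type) [Field F] [Fintype F] [CharP F 2] {n : ℕ}
    (hF : Fintype.card F = 2 ^ n) (a : F) {K : Type} [Field K] [Fintype K] [CharP K 2]
    (hK : Fintype.card K = Fintype.card F ^ 2) (ι : F →+* K) (θ : K) (hθ : θ ^ 2 + θ = ι a)
    (hspan : ∀ w : K, ∃ r s, w = ι r + θ * ι s) {c : Conj K} {W : Type v} [Group W]
    (M : CfsgLib.UnitarySylowAut.Model c W) : Nonempty (SqExt W (F × F) F (qform a)) := by
  classical
  have h2 : (2 : K) = 0 := CharTwo.two_eq_zero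
  have hq : c.q = Fintype.card F :=
    Nat.pow_left_injective two_ne_zero (by show c.q ^ 2 = Fintype.card F ^ 2; rw [← c.card, hK])
  have hfix : ∀ r, c.σ (ι r) = ι r := fun r => by
    rw [c.hσ, hq, ← map_pow, FiniteField.pow_card]
  have hbij : Function.Bijective fun v : F × F => ι v.2 + θ * ι v.1 := by
    rw [Fintype.bijective_iff_surjective_and_card]
    refine ⟨fun w => ?_, by rw [Fintype.card_prod, hK, sq]⟩
    obtain ⟨r, s, hw⟩ := hspan w
    exact ⟨(s, r), hw.symm⟩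
  let e := Equiv.ofBijective _ hbij
  have hσθ : c.σ θ = θ + 1 := by
    have hroot : c.σ θ ^ 2 + c.σ θ = ι a := by rw [← map_pow, ← map_add, hθ, hfix]
    have h0 : (c.σ θ + θ) * (c.σ θ + θ + 1) = 0 := by
      linear_combination hroot - hθ + (c.σ θ * θ + θ ^ 2 + θ) * h2
    rcases mul_eq_zero.1 h0 with h | h
    · exfalso
      have hall : ∀ w : K, c.σ w = w := fun w => by
        obtain ⟨r, s, rfl⟩ := hspan w
        rw [map_add, map_mul, hfix, hfix, CharTwo.add_eq_zero.1 h]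
      obtain ⟨w, hw⟩ := c.exists_moved
      exact hw (hall w)
    · linear_combination h - (θ + 1) * h2
  have hfixed : ∀ w, c.σ w = w → ∃ r, ι r = w := fun w hw => by
    obtain ⟨r, s, rfl⟩ := hspan w
    rw [map_add, map_mul, hfix, hfix, hσθ] at hw
    have : ι s = 0 := by linear_combination hw
    exact ⟨r, by rw [this, mul_zero, add_zero]⟩
  have hN : ∀ v : F × F, e v * c.σ (e v) = ι (qform a v) := fun v => by
    show (ι v.2 + θ * ι v.1) * c.σ (ι v.2 + θ * ι v.1) = ι (qform a v)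
    rw [map_add, map_mul, hfix, hfix, hσθ]
    simp only [qform, map_add, map_mul, map_pow, ← hθ]
    linear_combination (ι v.2 * θ * ι v.1) * h2
  have hkap1 : M.κ 1 = (0, 0) := by
    have h := M.mul 1 1
    rw [mul_one] at h
    have h1 : (M.κ 1).1 = 0 := left_eq_add.mp (congrArg Prod.fst h)
    have h2 := congrArg Prod.snd h
    simp [h1] at h2
    exact Prod.ext h1 h2
  choose cen hcen using fun u : F => (M.range 0 (ι u)).2 (by
    rw [hfix, CharTwo.add_self_eq_zero, zero_mul, add_zero])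
  refine ⟨⟨fun x => e.symm (M.κ x).1, cen, fun x y => e.injective ?_, fun v => ?_,
    fun u v h => ?_, fun u v => ?_, fun u x => ?_, fun x => ⟨fun h => ?_, ?_⟩, fun x => ?_⟩⟩
  · rw [e.apply_symm_apply, M.mul]
    show _ = ι (_ + _) + θ * ι (_ + _)
    rw [map_add, map_add]
    have hx : ι (e.symm (M.κ x).1).2 + θ * ι (e.symm (M.κ x).1).1 = (M.κ x).1 := e.apply_symm_apply _
    have hy : ι (e.symm (M.κ y).1).2 + θ * ι (e.symm (M.κ y).1).1 = (M.κ y).1 := e.apply_symm_apply _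
    linear_combination -hx - hy
  · obtain ⟨ε, hε⟩ := c.exists_trace_one
    obtain ⟨x, hx⟩ := (M.range (e v) (ε * (e v * c.σ (e v)))).2 (by
      rw [map_mul c.σ ε, map_mul c.σ (e v), c.invol]
      linear_combination (e v * c.σ (e v)) * hε + (e v * c.σ (e v)) * h2)
    exact ⟨x, by rw [hx, e.symm_apply_apply]⟩
  · have h1 := congrArg Prod.snd (congrArg M.κ h)
    rw [hcen, hcen] at h1
    exact ι.injective h1
  · refine M.inj ?_
    rw [M.mul, hcen, hcen, hcen]
    exact Prod.ext (by simp) (by simp [map_add, add_comm])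
  · refine M.inj ?_
    rw [M.mul, M.mul, hcen]
    exact Prod.ext (by simp) (by simp [add_comm])
  · have h1 : (M.κ x).1 = 0 := by
      rw [← e.apply_symm_apply (M.κ x).1, h]
      show ι (0 : F × F).2 + θ * ι (0 : F × F).1 = 0
      simp
    obtain ⟨r, hr⟩ := hfixed (M.κ x).2 (by
      have h2' := (M.range _ _).1 ⟨x, rfl⟩
      rw [h1, zero_mul, add_zero] at h2'
      exact (CharTwo.add_eq_zero.1 h2').symm)
    exact ⟨r, M.inj (by rw [hcen, hr, ← h1])⟩
  · rintro ⟨u, rfl⟩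
    rw [hcen]
    exact (Equiv.symm_apply_eq e).2 (show (0 : K) = ι (0 : F × F).2 + θ * ι (0 : F × F).1 by simp)
  · refine M.inj ?_
    rw [M.mul, hcen, ← hN, e.apply_symm_apply]
    refine Prod.ext (CharTwo.add_self_eq_zero _) ?_
    linear_combination ((M.κ x).2 - (M.κ x).1 * c.σ (M.κ x).1) * h2

end CfsgLib.InvFixedSinger
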