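import Cfsg.Agent.Lib.InvFixedSinger.Models

/-!
The data from an automorphism acting transitively on the fixed points of a commuting involution.
-/

set_option autoImplicit false
set_option linter.unusedSectionVars false

namespace CfsgLib.InvFixedSinger

universe u

/-- A transitive automorphism of an elementary abelian group is multiplication by a generator of a
field. -/
theorem exists_field {n : ℕ} (hn : 1 ≤ n) {V : Type u} [AddCommGroup V] [Finite V]
    (hV : Nat.card V = 2 ^ n) (h2 : ∀ x : V, x + x = 0) (f : AddMonoid.End V)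
    (hf : Function.Injective f)
    (htr : ∀ x y : V, x ≠ 0 → y ≠ 0 → ∃ k : ℕ, (f ^ k) x = y) :
    ∃ (F : Type) (_ : Field F) (_ : Fintype F), CharP F 2 ∧ Fintype.card F = 2 ^ n ∧
      ∃ (ω : F) (j : F → V), Function.Bijective j ∧ (∀ a b, j (a + b) = j a + j b) ∧
        (∀ a, f (j a) = j (ω * a)) ∧ ∀ x : F, x ≠ 0 → ∃ k : ℕ, ω ^ k = x := by
  classical
  haveI : Fact (Nat.Prime 2) := ⟨Nat.prime_two⟩
  haveI : Nontrivial V := Finite.one_lt_card_iff_nontrivial.1 (by
    rw [hV]; exact Nat.one_lt_two_pow (by omega))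
  obtain ⟨v, hv⟩ := exists_ne (0 : V)
  let R : Subring (AddMonoid.End V) := Subring.closure {f}
  have hfR : f ∈ R := Subring.subset_closure rfl
  have hcomm : ∀ r ∈ R, f * r = r * f := by
    intro r hr
    induction hr using Subring.closure_induction with
    | mem x hx => rw [Set.mem_singleton_iff.1 hx]
    | zero => rw [mul_zero, zero_mul]
    | one => rw [mul_one, one_mul]
    | add x y _ _ hx hy => rw [mul_add, add_mul, hx, hy]
    | neg x _ hx => rw [mul_neg, neg_mul, hx]
    | mul x y _ _ hx hy => rw [← mul_assoc, hx, mul_assoc, hy, mul_assoc]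
  have hfix : ∀ r ∈ R, ∀ k : ℕ, r ((f ^ k) v) = (f ^ k) (r v) := by
    intro r hr k
    have h : Commute r (f ^ k) := (show Commute r f from (hcomm r hr).symm).pow_right k
    exact DFunLike.congr_fun h.eq v
  have heval : ∀ r ∈ R, ∀ r' ∈ R, r v = r' v → r = r' := by
    intro r hr r' hr' h
    refine DFunLike.ext r r' fun x => ?_
    rcases eq_or_ne x 0 with rfl | hx
    · rw [map_zero, map_zero]
    · obtain ⟨k, rfl⟩ := htr v x hv hx
      rw [hfix r hr, hfix r' hr', h]
  have hpow : ∀ r ∈ R, r ≠ 0 → ∃ k : ℕ, f ^ k = r := by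
    intro r hr hr0
    have hrv : r v ≠ 0 := fun h => hr0 (heval r hr 0 (zero_mem _) (h.trans rfl))
    obtain ⟨k, hk⟩ := htr v (r v) hv hrv
    exact ⟨k, heval _ (pow_mem hfR k) r hr hk⟩
  have hpownz : ∀ k : ℕ, f ^ k ≠ 0 := by
    intro k hk
    have h : ∀ k : ℕ, (f ^ k) v ≠ 0 := by
      intro k
      induction k with
      | zero => exact hv
      | succ i ih =>
        rw [pow_succ']
        exact fun h => ih (hf (h.trans (map_zero f).symm))
    exact h k (by rw [hk]; rfl)
  let evalv : R → V := fun r => (r : AddMonoid.End V) v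
  have hbij : Function.Bijective evalv := by
    refine ⟨fun r r' h => Subtype.ext (heval _ r.2 _ r'.2 h), fun x => ?_⟩
    rcases eq_or_ne x 0 with rfl | hx
    · exact ⟨0, rfl⟩
    · obtain ⟨k, hk⟩ := htr v x hv hx
      exact ⟨⟨f ^ k, pow_mem hfR k⟩, hk⟩
  haveI : Finite R := Finite.of_injective evalv hbij.1
  letI : CommRing R :=
    { (inferInstance : Ring R) with
      mul_comm := fun a b => by
        rcases eq_or_ne (b : AddMonoid.End V) 0 with h0 | h0
        · exact Subtype.ext (by simp [h0])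
        · obtain ⟨k, hk⟩ := hpow b b.2 h0
          refine Subtype.ext ?_
          show (a : AddMonoid.End V) * b = b * a
          rw [← hk]
          exact ((show Commute (a : AddMonoid.End V) f from (hcomm a a.2).symm).pow_right k).eq }
  haveI : Nontrivial R := ⟨⟨0, 1, fun h => hv (congrArg evalv h).symm⟩⟩
  haveI : IsDomain R := by
    refine @NoZeroDivisors.to_isDomain _ _ _ ⟨fun {a b} hab => ?_⟩
    by_contra hne
    push Not at hne
    obtain ⟨k, hk⟩ := hpow a a.2 (fun h => hne.1 (Subtype.ext h))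
    obtain ⟨l, hl⟩ := hpow b b.2 (fun h => hne.2 (Subtype.ext h))
    refine hpownz (k + l) ?_
    rw [pow_add, hk, hl]
    exact congrArg Subtype.val hab
  letI : Field R := (Finite.isField_of_domain R).toField
  haveI : Fintype R := Fintype.ofFinite R
  haveI : Fintype (GaloisField 2 n) := Fintype.ofFinite _
  have hcF : Fintype.card (GaloisField 2 n) = 2 ^ n := by
    rw [← Nat.card_eq_fintype_card, GaloisField.card 2 n (by omega)]
  have hcR : Nat.card R = 2 ^ n := (Nat.card_congr (Equiv.ofBijective evalv hbij)).trans hV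
  let e : R ≃+* GaloisField 2 n := FiniteField.ringEquivOfCardEq
    (by rw [hcF, ← Nat.card_eq_fintype_card, hcR])
  refine ⟨GaloisField 2 n, inferInstance, inferInstance, inferInstance, hcF, e ⟨f, hfR⟩,
    fun a => evalv (e.symm a), hbij.comp e.symm.bijective, fun a b => ?_, fun a => ?_, fun x hx => ?_⟩
  · show evalv _ = evalv _ + evalv _
    rw [map_add]; rfl
  · show f (evalv (e.symm a)) = evalv (e.symm (e ⟨f, hfR⟩ * a))
    rw [map_mul, RingEquiv.symm_apply_apply]
    rfl
  · obtain ⟨k, hk⟩ := hpow (e.symm x : R) (e.symm x).2 (fun h => hx (by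
      have : e.symm x = 0 := Subtype.ext h
      simpa using congrArg e this))
    refine ⟨k, ?_⟩
    rw [← map_pow, show (⟨f, hfR⟩ : R) ^ k = e.symm x from Subtype.ext hk, RingEquiv.apply_symm_apply]

/-- The classification. -/
theorem classify {Q : Type u} [Group Q] [Finite Q] (hQ : IsPGroup 2 Q)
    (hna : ¬ ∀ g h : Q, g * h = h * g) (n : ℕ) (hn : 2 ≤ n) (α ρ : MulAut Q)
    (hinv : ∀ x, α (α x) = x) (hρ : ρ ^ (2 ^ n - 1) = 1) (hc : ∀ x, α (ρ x) = ρ (α x))
    (C : Subgroup Q) (hC : ∀ x, x ∈ C ↔ α x = x) (hCsq : ∀ x ∈ C, x * x = 1)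
    (hCc : Nat.card C = 2 ^ n)
    (htr : ∀ x y : Q, x ∈ C → y ∈ C → x ≠ 1 → y ≠ 1 → ∃ k : ℕ, (ρ ^ k) x = y) :
    ∃ (F : Type) (_ : Field F) (_ : Fintype F), CharP F 2 ∧ Fintype.card F = 2 ^ n ∧
      ∃ a : F, Nonempty (SqExt Q (F × F) F (qform a)) := by
  classical
  letI : CommGroup C :=
    { (inferInstance : Group C) with
      mul_comm := Datum.comm_of_sq_one fun x => Subtype.ext (hCsq x x.2) }
  have hρC : ∀ x ∈ C, ρ x ∈ C := fun x hx => (hC _).2 (by rw [hc, (hC x).1 hx])
  let f : AddMonoid.End (Additive C) :=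
    AddMonoidHom.mk' (fun x => Additive.ofMul ⟨ρ (Additive.toMul x : C), hρC _ (Additive.toMul x).2⟩)
      fun x y => by
        apply congrArg Additive.ofMul
        exact Subtype.ext (map_mul ρ _ _)
  have hf : ∀ (k : ℕ) (x : Additive C),
      ((Additive.toMul ((f ^ k) x) : C) : Q) = (ρ ^ k) (Additive.toMul x : C) := by
    intro k
    induction k with
    | zero => intro x; rfl
    | succ i ih =>
      intro x
      rw [pow_succ, pow_succ, MulAut.mul_apply]
      exact ih (f x)
  have hA : Nat.card (Additive C) = 2 ^ n := (Nat.card_congr Additive.toMul).trans hCc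
  obtain ⟨F, iF, iFt, iC, hcF, ω, j, hjb, hja, hjω, hgen⟩ := exists_field (by omega) hA
    (fun x => congrArg Additive.ofMul (Subtype.ext (hCsq _ (Additive.toMul x).2) :
      Additive.toMul x * Additive.toMul x = 1)) f (fun x y h => by
      have h1 : ρ ((Additive.toMul x : C) : Q) = ρ ((Additive.toMul y : C) : Q) :=
        congrArg (fun z : Additive C => ((Additive.toMul z : C) : Q)) h
      exact congrArg Additive.ofMul (Subtype.ext (ρ.injective h1) :
        Additive.toMul x = Additive.toMul y)) (fun x y hx hy => by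
      obtain ⟨k, hk⟩ := htr _ _ (Additive.toMul x).2 (Additive.toMul y).2
        (fun h => hx (congrArg Additive.ofMul (Subtype.ext h : Additive.toMul x = 1)))
        (fun h => hy (congrArg Additive.ofMul (Subtype.ext h : Additive.toMul y = 1)))
      exact ⟨k, congrArg Additive.ofMul (Subtype.ext ((hf k x).trans hk) :
        Additive.toMul ((f ^ k) x) = Additive.toMul y)⟩)
  refine ⟨F, iF, iFt, iC, hcF, ?_⟩
  have hcard : Nat.card F = 2 ^ n := by rw [Nat.card_eq_fintype_card, hcF]
  have h4 : 4 ≤ Nat.card F := by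
    rw [hcard]
    exact le_trans (by norm_num) (Nat.pow_le_pow_right two_pos hn)
  let D : Datum Q F ω :=
    { α := α
      ρ := ρ
      pgroup := hQ
      invol := hinv
      comm := hc
      j := fun a => ((Additive.toMul (j a) : C) : Q)
      j_inj := fun a b h => hjb.1 (congrArg Additive.ofMul (Subtype.ext h :
        Additive.toMul (j a) = Additive.toMul (j b)))
      j_add := fun a b => by rw [hja]; rfl
      mem := fun x => by
        refine ⟨fun ⟨a, ha⟩ => ha ▸ (hC _).1 (Additive.toMul (j a)).2, fun hx => ?_⟩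
        obtain ⟨a, ha⟩ := hjb.2 (Additive.ofMul ⟨x, (hC x).2 hx⟩)
        exact ⟨a, by rw [ha]; rfl⟩
      equiv := fun a => by rw [← hjω]; rfl
      period := by rw [hcard]; exact hρ
      gen := hgen }
  obtain ⟨Φ⟩ := (main h4 D).resolve_left hna
  exact Φ.normalise

end CfsgLib.InvFixedSinger
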